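import Cfsg.Agent.Lib.J4Seven.Fixed
import Cfsg.Agent.Lib.LargeExtra.Fischer.GLThree
import Cfsg.Prelude.Def_Solvable

/-!
# Pieces of finite group theory for the pentad subgroup

Subgroups of the symmetric group of degree five and of the linear group of order 168, the largest normal
2-subgroup and the Sylow subgroups fixed by an element of order seven.
-/

set_option autoImplicit false
set_option linter.style.haveILetI false

namespace Cfsg.Agent.J4Pentad

open Subgroup
open Matrix (SpecialLinearGroup)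

/-- The linear group of order 168. -/
abbrev SL32 := Matrix.SpecialLinearGroup (Fin 3) (ZMod 2)

theorem card_SL32 : Nat.card SL32 = 168 := by
  rw [Nat.card_eq_fintype_card]
  decide +kernel

theorem sl32_two_three : ∀ a : SL32, a * a = 1 → a ≠ 1 → ∀ b : SL32, b * b * b = 1 → a * b = b * a → b = 1 := by
  decide +kernel

theorem sl32_seven : ∀ a : SL32, a * a * a * (a * a * a) * a = 1 → a ≠ 1 → ∀ b : SL32, a * b = b * a →
    b * b * b * (b * b * b) * b = 1 := by
  decide +kernel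

theorem perm_five_two : ∀ a : Equiv.Perm (Fin 5), a * a = 1 → a ≠ 1 → ∀ b : Equiv.Perm (Fin 5), b * b = 1 →
    a * b = b * a → b ≠ 1 → b ≠ a →
    (Finset.univ.filter fun c : Equiv.Perm (Fin 5) => c * c = 1 ∧ c * a = a * c ∧ c * b = b * c).card ≤ 4 := by
  decide +kernel

theorem perm_five_odd : ∀ q : Equiv.Perm (Fin 5), q * q * q * q * q = 1 → q ≠ 1 →
    ∃ g : Equiv.Perm (Fin 5), g * q = q * q * g ∧ Equiv.Perm.sign g = -1 ∧ g * g * (g * g) = 1 ∧ g * g ≠ 1 := by
  decide +kernel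

/-- The symmetric group of degree five has no elementary subgroup of order eight. -/
theorem perm_five_no_eight (A : Subgroup (Equiv.Perm (Fin 5))) (hA : Nat.card ↥A = 8)
    (hsq : ∀ a ∈ A, a * a = 1) : False := by
  classical
  have hab : ∀ a ∈ A, ∀ b ∈ A, a * b = b * a := fun a ha b hb => by
    calc a * b = (a * b)⁻¹ := eq_inv_of_mul_eq_one_left (hsq _ (mul_mem ha hb))
      _ = b⁻¹ * a⁻¹ := _root_.mul_inv_rev a b
      _ = b * a := by rw [inv_eq_of_mul_eq_one_right (hsq a ha), inv_eq_of_mul_eq_one_right (hsq b hb)]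
  let s := Finset.univ.filter fun c => c ∈ A
  have hs : s.card = 8 := by
    rw [← hA, Nat.card_eq_fintype_card, Fintype.card_subtype]
  obtain ⟨a, ha, ha1⟩ := Finset.exists_mem_ne (s := s) (by omega) 1
  obtain ⟨b, hb, hb2⟩ : ∃ b ∈ s, b ∉ ({1, a} : Finset (Equiv.Perm (Fin 5))) := by
    by_contra hcon
    push Not at hcon
    have := (Finset.card_le_card (fun x hx => hcon x hx)).trans (Finset.card_le_two (a := 1) (b := a))
    omega
  simp only [Finset.mem_insert, Finset.mem_singleton, not_or] at hb2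
  simp only [s, Finset.mem_filter, Finset.mem_univ, true_and] at ha hb
  have h := perm_five_two a (hsq a ha) ha1 b (hsq b hb) (hab a ha b hb) hb2.1 hb2.2
  have : s.card ≤ 4 := le_trans (Finset.card_le_card fun c hc => by
    simp only [s, Finset.mem_filter, Finset.mem_univ, true_and] at hc ⊢
    exact ⟨hsq c hc, hab c hc a ha, hab c hc b hb⟩) h
  omega

/-- A subgroup of the symmetric group of degree five of order divisible by fifteen which holds, with an element
of order five, all that square it is the whole group. -/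
theorem perm_five_top (A : Subgroup (Equiv.Perm (Fin 5))) {q : Equiv.Perm (Fin 5)} (hq : q ∈ A)
    (hq5 : q ^ 5 = 1) (hq1 : q ≠ 1) (h3 : 3 ∣ Nat.card ↥A)
    (hN : ∀ g : Equiv.Perm (Fin 5), g * q = q * q * g → g ∈ A) : A = ⊤ := by
  obtain ⟨g, hg, hsign, hg4, hg2⟩ := perm_five_odd q (by simpa [pow_succ] using hq5) hq1
  have hgA := hN g hg
  haveI : Fact (Nat.Prime 5) := ⟨by norm_num⟩
  haveI : Fact (Nat.Prime 2) := ⟨Nat.prime_two⟩
  have h5 : 5 ∣ Nat.card ↥A := (orderOf_eq_prime hq5 hq1).symm.dvd.trans (A.orderOf_dvd_natCard hq)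
  have h4 : 4 ∣ Nat.card ↥A := by
    have e : orderOf g = 2 ^ 2 := orderOf_eq_prime_pow (by rw [pow_one, pow_two]; exact hg2)
      (by rw [show (2 : ℕ) ^ (1 + 1) = 4 from rfl, show g ^ 4 = g * g * (g * g) by simp [pow_succ, mul_assoc]]; exact hg4)
    exact (show (4 : ℕ) = orderOf g by rw [e]; norm_num).dvd.trans (A.orderOf_dvd_natCard hgA)
  have h60 : 60 ∣ Nat.card ↥A := Nat.Coprime.mul_dvd_of_dvd_of_dvd (show Nat.Coprime 20 3 by norm_num)
    (Nat.Coprime.mul_dvd_of_dvd_of_dvd (show Nat.Coprime 4 5 by norm_num) h4 h5) h3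
  have h120 : Nat.card (Equiv.Perm (Fin 5)) = 120 := by rw [Nat.card_perm, Nat.card_fin]; decide
  have hi := A.card_mul_index
  rw [h120] at hi
  obtain ⟨k, hk⟩ := h60
  rw [hk, mul_assoc] at hi
  have hk2 : k * A.index = 2 := by omega
  rcases (Nat.dvd_prime Nat.prime_two).1 (Dvd.intro_left k hk2) with e | e
  · exact index_eq_one.1 e
  · exfalso
    rw [Equiv.Perm.eq_alternatingGroup_of_index_eq_two e, Equiv.Perm.mem_alternatingGroup, hsign] at hgA
    exact absurd hgA (by decide)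

variable {G : Type*} [Group G]

/-- The largest normal 2-subgroup of a subgroup. -/
def twoCore (C : Subgroup G) : Subgroup G := (Cfsg.pCore 2 ↥C).map C.subtype

theorem twoCore_le (C : Subgroup G) : twoCore C ≤ C := map_subtype_le _

theorem isPGroup_twoCore (C : Subgroup G) : IsPGroup 2 ↥(twoCore C) := by
  haveI : Fact (Nat.Prime 2) := ⟨Nat.prime_two⟩
  exact IsPGroup.map (Sylow.sSup_of_normal _ (fun _ hN => hN.2) fun _ hN => hN.1) C.subtype

theorem le_twoCore {C A : Subgroup G} (hA : A ≤ C) (hn : ∀ c ∈ C, ∀ a ∈ A, c * a * c⁻¹ ∈ A)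
    (h2 : IsPGroup 2 ↥A) : A ≤ twoCore C := by
  have h : A.subgroupOf C ≤ Cfsg.pCore 2 ↥C :=
    le_sSup ⟨⟨fun a ha c => mem_subgroupOf.2 (hn c c.2 a (mem_subgroupOf.1 ha))⟩,
      h2.comap_of_injective C.subtype C.subtype_injective⟩
  intro a ha
  exact ⟨⟨a, hA ha⟩, h (mem_subgroupOf.2 ha), rfl⟩

/-- An element normalising a subgroup normalises its largest normal 2-subgroup. -/
theorem twoCore_conj {C : Subgroup G} {g : G} (hg : g ∈ normalizer (C : Set G)) {l : G} (hl : l ∈ twoCore C) :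
    g * l * g⁻¹ ∈ twoCore C := by
  have hC : ∀ c, c ∈ C ↔ g * c * g⁻¹ ∈ C := mem_normalizer_iff.1 hg
  have hin : ∀ c ∈ C, ∀ a ∈ twoCore C, c * a * c⁻¹ ∈ twoCore C := by
    rintro c hc _ ⟨a, ha, rfl⟩
    haveI : (Cfsg.pCore 2 ↥C).Normal := sSup_normal _ fun _ hN => hN.1
    exact ⟨⟨c, hc⟩ * a * ⟨c, hc⟩⁻¹, Normal.conj_mem inferInstance a ha _, rfl⟩
  refine le_twoCore (A := (twoCore C).map (MulAut.conj g).toMonoidHom) ?_ ?_
    ((isPGroup_twoCore C).map _) ⟨l, hl, rfl⟩
  · rintro _ ⟨a, ha, rfl⟩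
    exact (hC a).1 (twoCore_le C ha)
  · rintro c hc _ ⟨a, ha, rfl⟩
    have h1 : g⁻¹ * c * g ∈ C := (hC _).2 (by
      rw [show g * (g⁻¹ * c * g) * g⁻¹ = c by group]; exact hc)
    refine ⟨_, hin _ h1 a ha, ?_⟩
    show g * (g⁻¹ * c * g * a * (g⁻¹ * c * g)⁻¹) * g⁻¹ = c * (g * a * g⁻¹) * c⁻¹
    group

/-- An element of order seven normalises a Sylow subgroup of a subgroup of order prime to seven. -/
theorem exists_inv_sylow [Finite G] (C : Subgroup G) {s : G} (hs : s ∈ normalizer (C : Set G)) (hs7 : s ^ 7 = 1)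
    (h7 : ¬ 7 ∣ Nat.card ↥C) (q : ℕ) [Fact q.Prime] :
    ∃ R ≤ C, Nat.card ↥R = q ^ (Nat.card ↥C).factorization q ∧ ∀ r ∈ R, s * r * s⁻¹ ∈ R := by
  classical
  haveI : Fact (Nat.Prime 7) := ⟨by norm_num⟩
  let α := {R : Subgroup G // R ≤ C ∧ Nat.card ↥R = q ^ (Nat.card ↥C).factorization q}
  have e : Sylow q ↥C ≃ α :=
    { toFun := fun T => ⟨(T : Subgroup ↥C).map C.subtype, map_subtype_le _, by
        rw [card_map_of_injective C.subtype_injective, T.card_eq_multiplicity]⟩
      invFun := fun R => Sylow.ofCard (R.1.subgroupOf C) (by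
        rw [Nat.card_congr (subgroupOfEquivOfLe R.2.1).toEquiv, R.2.2])
      left_inv := fun T => Sylow.ext (comap_map_eq_self_of_injective C.subtype_injective _)
      right_inv := fun R => Subtype.ext (map_subgroupOf_eq_of_le R.2.1) }
  let f : α → α := fun R => ⟨R.1.map (MulAut.conj s).toMonoidHom, by
    refine ⟨?_, by rw [card_map_of_injective (MulAut.conj s).injective, R.2.2]⟩
    rintro _ ⟨r, hr, rfl⟩
    exact (mem_normalizer_iff.1 hs r).1 (R.2.1 hr)⟩
  have hit : ∀ (n : ℕ) (R : α), (f^[n] R).1 = R.1.map (MulAut.conj (s ^ n)).toMonoidHom := by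
    intro n R
    induction n with
    | zero => ext x; simp
    | succ n ih =>
      rw [Function.iterate_succ_apply']
      show (f^[n] R).1.map _ = _
      rw [ih, map_map]
      congr 1
      ext x
      show s * (s ^ n * x * (s ^ n)⁻¹) * s⁻¹ = s ^ (n + 1) * x * (s ^ (n + 1))⁻¹
      rw [pow_succ']; group
  have h := J4Seven.card_fixed_modEq (p := 7) f fun R => Subtype.ext (by
    rw [hit, hs7]
    ext x; simp)
  rw [← Nat.card_congr e] at h
  have hn : ¬ 7 ∣ Nat.card (Sylow q ↥C) := fun hd => h7 (by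
    obtain ⟨T⟩ := (inferInstance : Nonempty (Sylow q ↥C))
    exact hd.trans ((Sylow.card_dvd_index T).trans (index_dvd_card _)))
  have hpos : Nat.card {R : α // f R = R} ≠ 0 := fun e0 => by
    rw [e0] at h
    exact hn (Nat.modEq_zero_iff_dvd.1 h)
  haveI := (Nat.card_ne_zero.1 hpos).1
  obtain ⟨⟨⟨R, hRC, hRc⟩, hR⟩⟩ := (inferInstance : Nonempty {R : α // f R = R})
  refine ⟨R, hRC, hRc, fun r hr => ?_⟩
  have e1 : R.map (MulAut.conj s).toMonoidHom = R := congrArg Subtype.val hR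
  rw [← e1]
  exact ⟨r, hr, rfl⟩

end Cfsg.Agent.J4Pentad
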