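import Cfsg.Agent.Lib.J4Pentad.Data
import Cfsg.Agent.Lib.J4V.Invol.Checks

/-!
# Kernel checks of the tables for the pentad subgroup
-/

set_option autoImplicit false
set_option maxRecDepth 20000

namespace Cfsg.Agent.J4Pentad.Checks

open Cfsg Cfsg.Agent.Golay.Basic Cfsg.Agent.Golay.Cert Cfsg.Agent.Golay.TabList Cfsg.Agent.Golay.M24
open Cfsg.Agent.M24CocodeSplit.Checks (imgChk)
open Cfsg.Agent.J4V.Invol.Checks (vx)

/-- The elements of orders seven and three. -/
def headOK : Bool :=
  let x2 := mulTab Data.xT Data.xT
  let x4 := mulTab x2 x2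
  Nat.blt Data.pa 24 && Nat.blt Data.pb 24 && Nat.blt Data.pc 24 && !Nat.beq Data.pa Data.pb &&
    !Nat.beq Data.pb Data.pc && !Nat.beq Data.pa Data.pc &&
    imgChk Data.xT Data.xI && imgChk Data.sT Data.sI &&
    !Nat.beq Data.xT idTab && Nat.beq (mulTab (mulTab x4 x2) Data.xT) idTab &&
    !Nat.beq Data.sT idTab && Nat.beq (mulTab (mulTab Data.sT Data.sT) Data.sT) idTab &&
    Nat.beq (mulTab Data.xT Data.sT) (mulTab Data.sT Data.xT) &&
    Nat.beq (enc Data.xI (vx Data.pa Data.pb)) (vx Data.pa Data.pb) &&
    Nat.beq (enc Data.xI (vx Data.pa Data.pc)) (vx Data.pa Data.pc)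

theorem headOK_eq : headOK = true := by decide +kernel

/-- The element of order three moves every point. -/
theorem sT_free : ∀ i < 24, tabAt Data.sT i ≠ i := by decide +kernel

/-- The listed involutions of M24 fix no point or eight. -/
def repFixOK : Bool :=
  (List.range 2).all fun n =>
    let k := ((List.range 24).filter fun i => Nat.beq (tabAt (J4V.Invol.Checks.repT n) i) i).length
    Nat.beq k 0 || Nat.beq k 8

theorem repFixOK_eq : repFixOK = true := by decide +kernel

/-- The fixed vectors of the element of order three. -/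
def zsOK : Bool :=
  Nat.beq Data.zs.length 8 && decide Data.zs.Nodup && Data.zs.contains 0 &&
    Data.zs.all (fun u => Nat.blt u 2048) &&
    (List.range 2048).all fun u => !Nat.beq (enc Data.sI u) u || Data.zs.contains u

theorem zsOK_eq : zsOK = true := by decide +kernel

/-- The table in position `i`. -/
def el (i : ℕ) : ℕ := Data.els.getD i idTab

/-- Its images of the basis. -/
def elI (i : ℕ) : List ℕ := Data.elsI.getD i []

/-- The origin of the element in position `i`. -/
def pr (i : ℕ) : ℕ × ℕ := Data.par.getD i (0, 0)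

/-- The products of the element in position `i` with the generators. -/
def st (i g : ℕ) : ℕ := if g = 0 then (Data.step.getD i (0, 0)).1 else (Data.step.getD i (0, 0)).2

/-- The generators. -/
def gen (g : ℕ) : ℕ := if g = 0 then Data.xT else Data.aT

/-- The subgroup of order 168. -/
def elsOK : Bool :=
  Nat.beq Data.els.length 168 && decide Data.els.Nodup && Nat.beq (el 0) idTab &&
    (List.range 168).all fun i =>
      imgChk (el i) (elI i) &&
      Data.zs.all (fun u => Data.zs.contains (enc (elI i) u)) &&
      (List.range 2).all (fun g => Nat.blt (st i g) 168 && Nat.beq (mulTab (el i) (gen g)) (el (st i g))) &&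
      (Nat.beq i 0 ||
        (Nat.blt (pr i).1 i && Nat.blt (pr i).2 2 &&
          Nat.beq (el i) (mulTab (el (pr i).1) (gen (pr i).2)) &&
          Data.zs.any fun u => !Nat.beq (enc (elI i) u) u))

theorem elsOK_eq : elsOK = true := by decide +kernel

end Cfsg.Agent.J4Pentad.Checks
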