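import Cfsg.Agent.Lib.J4Pentad.Local
import Cfsg.Agent.Lib.J4Pentad.Basic
import Cfsg.Agent.Lib.J4Seven.Main
import Cfsg.Agent.Lib.Coprime.Basic

/-!
# Janko four type: the subgroup of order eight from the centraliser of a subgroup of order five

`Hyp` is the structure of the centraliser of a subgroup of order five of `C`; the normal subgroup of order eight
of its second factor lies in `E`, contains `z` and has normaliser inducing all its automorphisms.
-/

set_option autoImplicit false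
set_option linter.style.haveILetI false
set_option linter.unusedSectionVars false

namespace Cfsg.Agent.J4Pentad

open Subgroup
open Cfsg.Agent.J4Local
open Cfsg.Agent.J4Eleven (Chart)

universe u

variable {G : Type u} [Group G] [Finite G] {z : G} {P : Subgroup G}

/-- The structure of the centraliser of a subgroup of order five. -/
structure Hyp (z : G) (P Q J : Subgroup G) (E : Subgroup ↥J) : Prop where
  card5 : Nat.card ↥Q = 5
  le : Q ≤ CC z P
  prod : Cfsg.IsInternalDirectProduct Q J (centralizer (Q : Set G))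
  normal : E.Normal
  elem : Cfsg.IsElementaryAbelian 2 E
  card8 : Nat.card ↥E = 8
  quot : ∃ ρ : ↥J →* SL32, Function.Surjective ρ ∧ ρ.ker = E
  nonsplit : ∀ K : Subgroup ↥J, ¬ E.IsComplement' K

theorem coprime_eq_one {x : G} {m n : ℕ} (hm : x ^ m = 1) (hn : x ^ n = 1) (h : m.Coprime n) : x = 1 :=
  orderOf_eq_one_iff.1 (Nat.dvd_one.1 (h ▸ Nat.dvd_gcd (orderOf_dvd_of_pow_eq_one hm) (orderOf_dvd_of_pow_eq_one hn)))

/-- In a direct product with a factor of order `n` the elements of order prime to `n` lie in the other factor. -/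
theorem mem_right {A B C : Subgroup G} (h : Cfsg.IsInternalDirectProduct A B C) {g : G} (hg : g ∈ C) {m : ℕ}
    (hm : g ^ m = 1) (hco : m.Coprime (Nat.card ↥A)) : g ∈ B := by
  obtain ⟨-, -, hab, hdis, hsup⟩ := h
  have hn : B ≤ normalizer (A : Set G) := fun b hb => M22Order.mem_normalizer_of_conj fun a ha => by
    rw [← hab a ha b hb, mul_inv_cancel_right]; exact ha
  rw [← hsup] at hg
  obtain ⟨a, ha, b, hb, rfl⟩ := (Coprime.mem_sup_of_le_normalizer hn).1 hg
  rw [(show Commute a b from hab a ha b hb).mul_pow] at hm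
  have h1 : a ^ m ∈ A ⊓ B := mem_inf.2 ⟨pow_mem ha m, by rw [eq_inv_of_mul_eq_one_left hm]; exact inv_mem (pow_mem hb m)⟩
  rw [hdis, mem_bot] at h1
  have h2 : a ^ Nat.card ↥A = 1 := congrArg Subtype.val (pow_card_eq_one' (x := (⟨a, ha⟩ : ↥A)))
  rw [coprime_eq_one h1 h2 hco, one_mul]
  exact hb

namespace Hyp

variable {Q J : Subgroup G} {E : Subgroup ↥J}

/-- The normal subgroup of order eight. -/
abbrev Zs (E : Subgroup ↥J) : Subgroup G := E.map J.subtype

theorem Zs_le (E : Subgroup ↥J) : Zs E ≤ J := map_subtype_le _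

variable (D : Hyp z P Q J E)
include D

theorem J_le : J ≤ centralizer (Q : Set G) := D.prod.2.1

theorem comm {q j : G} (hq : q ∈ Q) (hj : j ∈ J) : q * j = j * q := D.prod.2.2.1 q hq j hj

theorem mem_J {g : G} (hg : g ∈ centralizer (Q : Set G)) {m : ℕ} (hm : g ^ m = 1) (h5 : m.Coprime 5) : g ∈ J :=
  mem_right D.prod hg hm (by rw [D.card5]; exact h5)

theorem card_J : Nat.card ↥J = 8 * 168 := by
  obtain ⟨ρ, hρ, hk⟩ := D.quot
  have h := ρ.ker.card_mul_index
  rw [index_ker, MonoidHom.range_eq_top.2 hρ, Nat.card_congr topEquiv.toEquiv, hk, D.card8, card_SL32] at h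
  exact h.symm

theorem card_Zs : Nat.card ↥(Zs E) = 8 := by rw [card_map_of_injective J.subtype_injective, D.card8]

theorem sq {u : G} (hu : u ∈ Zs E) : u * u = 1 := by
  obtain ⟨e, he, rfl⟩ := hu
  rw [← map_mul, ← pow_two, D.elem.2 e he, map_one]

theorem J_norm {j : G} (hj : j ∈ J) {u : G} (hu : u ∈ Zs E) : j * u * j⁻¹ ∈ Zs E := by
  obtain ⟨e, he, rfl⟩ := hu
  exact ⟨⟨j, hj⟩ * e * ⟨j, hj⟩⁻¹, D.normal.conj_mem e he _, rfl⟩

theorem isPGroup_Zs : IsPGroup 2 ↥(Zs E) := IsPGroup.of_card (n := 3) (by rw [D.card_Zs]; norm_num)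

/-- A 2-subgroup of `J` normalised by `J` lies in the subgroup of order eight. -/
theorem le_Zs {A : Subgroup G} (hA : A ≤ J) (hn : ∀ j ∈ J, ∀ a ∈ A, j * a * j⁻¹ ∈ A) (h2 : IsPGroup 2 ↥A) :
    A ≤ Zs E := by
  haveI : Fact (Nat.Prime 2) := ⟨Nat.prime_two⟩
  haveI : IsSimpleGroup SL32 := LargeExtra.Fischer.sl3_simple
  obtain ⟨ρ, hρ, hk⟩ := D.quot
  have hnA : (A.subgroupOf J).Normal := ⟨fun a ha j => mem_subgroupOf.2 (hn j j.2 a (mem_subgroupOf.1 ha))⟩
  rcases IsSimpleGroup.eq_bot_or_eq_top_of_normal _ (hnA.map ρ hρ) with h | h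
  · intro a ha
    refine ⟨⟨a, hA ha⟩, ?_, rfl⟩
    rw [← hk]
    exact MonoidHom.mem_ker.2 (mem_bot.1 (h ▸ mem_map_of_mem ρ (mem_subgroupOf.2 ha)))
  · exfalso
    have h3 : IsPGroup 2 ↥((A.subgroupOf J).map ρ) := (h2.comap_of_injective J.subtype J.subtype_injective).map ρ
    obtain ⟨n, hn'⟩ := (IsPGroup.iff_card (p := 2)).1 h3
    rw [h, Nat.card_congr topEquiv.toEquiv, card_SL32] at hn'
    have h21 : 3 ∣ 2 ^ n := ⟨56, by omega⟩
    have := Nat.Prime.dvd_of_dvd_pow Nat.prime_three h21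
    norm_num at this

theorem z_mem_CQ : z ∈ centralizer (Q : Set G) :=
  mem_centralizer_iff.2 fun _ hq => mem_HH.1 (D.le hq).1

theorem P_le_J (hJ : JType z P) : P ≤ J := fun p hp =>
  D.mem_J (mem_centralizer_iff.2 fun _ hq => commute_CC_P (D.le hq) hp) (pow_three_eq_one hJ hp) (by norm_num)

theorem z_mem_Zs (hJ : JType z P) : z ∈ Zs E := by
  obtain ⟨ρ, hρ, hk⟩ := D.quot
  have hzJ : z ∈ J := D.mem_J D.z_mem_CQ (m := 2) (by rw [pow_two, hJ.ctr.zz]) (by norm_num)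
  by_contra hcon
  obtain ⟨p, hp, hp1, -, hp3⟩ := hJ.exists_gen
  have hpz : p * z = z * p := mem_HH.1 (hJ.P_le_HH hp)
  set a : ↥J := ⟨z, hzJ⟩
  set b : ↥J := ⟨p, D.P_le_J hJ hp⟩
  have ha : ρ a ≠ 1 := fun e => hcon ⟨a, hk ▸ MonoidHom.mem_ker.2 e, rfl⟩
  have hb : ρ b ≠ 1 := fun e => by
    have h1 : p ∈ Zs E := ⟨b, hk ▸ MonoidHom.mem_ker.2 e, rfl⟩
    exact hp1 (coprime_eq_one hp3 (n := 2) (by rw [pow_two, D.sq h1]) (by norm_num))
  refine hb (sl32_two_three (ρ a) ?_ ha (ρ b) ?_ ?_)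
  · rw [← map_mul, show a * a = 1 from Subtype.ext hJ.ctr.zz, map_one]
  · rw [← map_mul, ← map_mul, show b * b * b = 1 from Subtype.ext (by
      show p * p * p = 1
      rw [← hp3]; simp [pow_succ]), map_one]
  · rw [← map_mul, ← map_mul, show a * b = b * a from Subtype.ext hpz.symm]

/-- `J` normalises the subgroup, and so does the centraliser of `Q`. -/
theorem CQ_le : centralizer (Q : Set G) ≤ normalizer (Zs E : Set G) := by
  rw [← D.prod.2.2.2.2]
  refine sup_le (fun q hq => M22Order.mem_normalizer_of_conj fun u hu => ?_)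
    fun j hj => M22Order.mem_normalizer_of_conj fun u hu => D.J_norm hj hu
  rw [D.comm hq (Zs_le E hu), mul_inv_cancel_right]; exact hu

/-- The normaliser of `Q` normalises the subgroup. -/
theorem NQ_le : normalizer (Q : Set G) ≤ normalizer (Zs E : Set G) := by
  intro g hg
  have hQ : ∀ q, q ∈ Q ↔ g * q * g⁻¹ ∈ Q := mem_normalizer_iff.1 hg
  set A := (Zs E).map (MulAut.conj g).toMonoidHom with hA
  have hAJ : A ≤ J := by
    rintro _ ⟨u, hu, rfl⟩
    refine D.mem_J (mem_centralizer_iff.2 fun q hq => ?_) (m := 2) ?_ (by norm_num)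
    · have h1 : g⁻¹ * q * g ∈ Q := (hQ _).2 (by rw [show g * (g⁻¹ * q * g) * g⁻¹ = q by group]; exact hq)
      have h2 := D.comm h1 (Zs_le E hu)
      show q * (g * u * g⁻¹) = g * u * g⁻¹ * q
      calc q * (g * u * g⁻¹) = g * (g⁻¹ * q * g * u) * g⁻¹ := by group
        _ = _ := by rw [h2]; group
    · show (g * u * g⁻¹) ^ 2 = 1
      rw [conj_pow, pow_two, D.sq hu, mul_one, mul_inv_cancel]
  have hle := D.le_Zs hAJ (by
    rintro j hj _ ⟨u, hu, rfl⟩
    have h1 : g⁻¹ * j * g ∈ centralizer (Q : Set G) := mem_centralizer_iff.2 fun q hq => by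
      have h2 := mem_centralizer_iff.1 (D.J_le hj) _ ((hQ q).1 hq)
      calc q * (g⁻¹ * j * g) = g⁻¹ * (g * q * g⁻¹ * j) * g := by group
        _ = _ := by rw [h2]; group
    refine ⟨_, (mem_normalizer_iff.1 (D.CQ_le h1) u).1 hu, ?_⟩
    show g * (g⁻¹ * j * g * u * (g⁻¹ * j * g)⁻¹) * g⁻¹ = j * (g * u * g⁻¹) * j⁻¹
    group) (D.isPGroup_Zs.map _)
  have he : A = Zs E := eq_of_le_of_card_ge hle
    (le_of_eq (card_map_of_injective (f := (MulAut.conj g).toMonoidHom) (MulAut.conj g).injective).symm)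
  exact M22Order.mem_normalizer_of_conj fun u hu => he ▸ ⟨u, hu, rfl⟩

variable [IsSimpleGroup G]

/-- An element of order seven of `J` and the fixed points on the subgroup. -/
theorem exists_seven (hG : ¬ IsMulCommutative G) (hJ : JType z P) : ∃ s ∈ J, orderOf s = 7 ∧
    J ⊓ centralizer (Zs E : Set G) = Zs E ∧ Zs E ⊓ centralizer ({s} : Set G) = ⊥ ∧
    ∀ p ∈ P, p ≠ 1 → Nat.card ↥(Zs E ⊓ centralizer ({p} : Set G)) = 2 := by
  classical
  haveI : Fact (Nat.Prime 7) := ⟨by norm_num⟩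
  haveI : Fact (Nat.Prime 3) := ⟨Nat.prime_three⟩
  obtain ⟨⟨s, hsJ⟩, hs⟩ := exists_prime_orderOf_dvd_card' (G := ↥J) 7 (by rw [D.card_J]; norm_num)
  rw [Subgroup.orderOf_mk] at hs
  have hab : ∀ a ∈ Zs E, ∀ b ∈ Zs E, a * b = b * a := fun a ha b hb => by
    calc a * b = (a * b)⁻¹ := eq_inv_of_mul_eq_one_left (D.sq (mul_mem ha hb))
      _ = b⁻¹ * a⁻¹ := mul_inv_rev a b
      _ = b * a := by rw [inv_eq_of_mul_eq_one_right (D.sq ha), inv_eq_of_mul_eq_one_right (D.sq hb)]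
  obtain ⟨-, ⟨I, hI, ⟨φ⟩⟩, -, -⟩ :=
    J4Seven.order_seven hG ⟨P, hJ⟩ (zpowers s) (by rw [Nat.card_zpowers, hs])
  haveI : IsSimpleGroup SL32 := LargeExtra.Fischer.sl3_simple
  obtain ⟨ρ, hρ, hk⟩ := D.quot
  set W := J ⊓ centralizer (Zs E : Set G) with hW
  have hWn : (W.subgroupOf J).Normal := ⟨fun w hw j => mem_subgroupOf.2 ⟨(j * w * j⁻¹).2,
    mem_centralizer_iff.2 fun u hu => by
      have h1 : (j : G)⁻¹ * u * j ∈ Zs E := by
        simpa using D.J_norm (inv_mem j.2) hu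
      have h2 := mem_centralizer_iff.1 (mem_inf.1 (mem_subgroupOf.1 hw)).2 _ h1
      push_cast
      calc u * ((j : G) * w * (j : G)⁻¹) = j * ((j : G)⁻¹ * u * j * w) * (j : G)⁻¹ := by group
        _ = _ := by rw [h2]; group⟩⟩
  have hZW : Zs E ≤ W := le_inf (Zs_le E) fun u hu => mem_centralizer_iff.2 fun v hv => hab v hv u hu
  have hWZ : W = Zs E := by
    refine le_antisymm ?_ hZW
    rcases IsSimpleGroup.eq_bot_or_eq_top_of_normal _ (hWn.map ρ hρ) with h | h
    · intro a ha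
      exact ⟨⟨a, ha.1⟩, (SetLike.ext_iff.1 hk _).1
        (MonoidHom.mem_ker.2 (mem_bot.1 (h ▸ mem_map_of_mem ρ (mem_subgroupOf.2 ha)))), rfl⟩
    · exfalso
      obtain ⟨b, hb, e⟩ : ρ ⟨s, hsJ⟩ ∈ (W.subgroupOf J).map ρ := h ▸ mem_top _
      have h1 : (⟨s, hsJ⟩ : ↥J)⁻¹ * b ∈ E := (SetLike.ext_iff.1 hk _).1 (by
        rw [MonoidHom.mem_ker, map_mul, map_inv, e, inv_mul_cancel])
      have hsW : s ∈ W := by
        have h2 : ((⟨s, hsJ⟩ : ↥J)⁻¹ * b : G) ∈ Zs E := ⟨_, h1, rfl⟩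
        have h3 := mul_mem (mem_subgroupOf.1 hb) (inv_mem (hZW h2))
        simpa [mul_assoc] using h3
      have hle : Zs E ≤ I := fun u hu => mem_right hI
        (mem_centralizer_iff.2 fun a ha => (J4Seven.comm_of_mem_zpowers ha
          (mem_centralizer_iff.1 (mem_inf.1 hsW).2 u hu)).symm)
        (m := 2) (by rw [pow_two, D.sq hu]) (by rw [Nat.card_zpowers, hs]; norm_num)
      refine perm_five_no_eight ((Zs E).subgroupOf I |>.map φ.toMonoidHom) ?_ ?_
      · rw [card_map_of_injective φ.injective, Nat.card_congr (subgroupOfEquivOfLe hle).toEquiv, D.card_Zs]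
      · rintro _ ⟨a, ha, rfl⟩
        rw [← map_mul, show a * a = 1 from Subtype.ext (D.sq (mem_subgroupOf.1 ha)), map_one]
  have hnW : ∀ x ∈ J, x ∉ Zs E → Zs E ⊓ centralizer ({x} : Set G) ≠ Zs E := fun x hx hx' e => hx' (by
    rw [← hWZ]
    exact ⟨hx, mem_centralizer_iff.2 fun u hu => mem_centralizer_singleton_iff.1
      (mem_inf.1 (e.symm ▸ hu : u ∈ Zs E ⊓ centralizer ({x} : Set G))).2⟩)
  refine ⟨s, hsJ, hs, hWZ, ?_, fun p hp hp1 => ?_⟩
  · have h1 := J4Seven.card_conj_fixed (p := 7) (hs ▸ pow_orderOf_eq_one s) (Zs E) fun v hv => D.J_norm hsJ hv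
    have h8 := card_dvd_of_le (inf_le_left : Zs E ⊓ centralizer ({s} : Set G) ≤ Zs E)
    have hne : Nat.card ↥(Zs E ⊓ centralizer ({s} : Set G)) ≠ 8 := fun e => hnW s hsJ (fun h => by
      have := coprime_eq_one (hs ▸ pow_orderOf_eq_one s) (n := 2) (by rw [pow_two, D.sq h]) (by norm_num)
      rw [this, orderOf_one] at hs; omega)
      (eq_of_le_of_card_ge inf_le_left (by rw [D.card_Zs, e]))
    rw [D.card_Zs] at h8 h1
    rw [← card_eq_one]
    have h9 := Nat.le_of_dvd (by norm_num) h8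
    interval_cases h : Nat.card ↥(Zs E ⊓ centralizer ({s} : Set G)) <;> simp_all [Nat.ModEq]
  · have hpJ := D.P_le_J hJ hp
    have h1 := J4Seven.card_conj_fixed (p := 3) (pow_three_eq_one hJ hp) (Zs E) fun v hv => D.J_norm hpJ hv
    have h8 := card_dvd_of_le (inf_le_left : Zs E ⊓ centralizer ({p} : Set G) ≤ Zs E)
    have hne : Nat.card ↥(Zs E ⊓ centralizer ({p} : Set G)) ≠ 8 := fun e => hnW p hpJ (fun h => hp1
      (coprime_eq_one (pow_three_eq_one hJ hp) (n := 2) (by rw [pow_two, D.sq h]) (by norm_num)))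
      (eq_of_le_of_card_ge inf_le_left (by rw [D.card_Zs, e]))
    rw [D.card_Zs] at h8 h1
    have h9 := Nat.le_of_dvd (by norm_num) h8
    interval_cases h : Nat.card ↥(Zs E ⊓ centralizer ({p} : Set G)) <;> simp_all [Nat.ModEq]

theorem Zs_le_EE (hG : ¬ IsMulCommutative G) (hJ : JType z P) : Zs E ≤ EE z := by
  obtain ⟨-, -, -, hW, -, hp2⟩ := D.exists_seven hG hJ
  obtain ⟨p, hp, hp1, -, -⟩ := hJ.exists_gen
  have hz := D.z_mem_Zs hJ
  refine le_EE hJ D.card_Zs (fun u hu => D.sq hu) hz (fun u hu => ?_) hp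
    (fun u hu => D.J_norm (D.P_le_J hJ hp) hu) (hp2 p hp hp1)
  exact (mem_centralizer_iff.1 (mem_inf.1 (hW.symm ▸ hz : z ∈ J ⊓ centralizer (Zs E : Set G))).2 u hu)

/-- The action of the normaliser on the subgroup. -/
theorem exists_act (hG : ¬ IsMulCommutative G) (hJ : JType z P) :
    ∃ Φ : ↥(normalizer (Zs E : Set G)) →* SL32, Function.Surjective Φ ∧
      Φ.ker = (centralizer (Zs E : Set G)).subgroupOf (normalizer (Zs E : Set G)) := by
  obtain ⟨-, -, -, hW, -, -⟩ := D.exists_seven hG hJ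
  obtain ⟨e⟩ := LargeExtra.Fischer.equiv_V3 (P := ↥(Zs E)) D.card_Zs fun x => Subtype.ext (D.sq x.2)
  let iso : MulAut ↥(Zs E) ≃* SL32 :=
    (MulAut.congr e).trans (MulEquiv.ofBijective _ LargeExtra.Fischer.sl3Aut_bijective).symm
  set Φ : ↥(normalizer (Zs E : Set G)) →* SL32 := iso.toMonoidHom.comp (Zs E).normalizerMonoidHom with hΦ
  have hker : Φ.ker = (centralizer (Zs E : Set G)).subgroupOf (normalizer (Zs E : Set G)) := by
    rw [← normalizerMonoidHom_ker]
    ext x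
    rw [MonoidHom.mem_ker, MonoidHom.mem_ker]
    exact iso.map_eq_one_iff
  refine ⟨Φ, MonoidHom.range_eq_top.1 (eq_top_of_card_eq _ (le_antisymm (Finite.card_subtype_le _) ?_)), hker⟩
  let f : ↥J →* ↥Φ.range := Φ.rangeRestrict.comp
    (inclusion fun j hj => D.CQ_le (D.J_le hj))
  have hfk : f.ker = E := by
    ext j
    rw [MonoidHom.mem_ker, Subtype.ext_iff]
    show Φ (inclusion _ j) = 1 ↔ _
    rw [← MonoidHom.mem_ker, hker, mem_subgroupOf]
    show (j : G) ∈ centralizer (Zs E : Set G) ↔ _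
    constructor
    · intro h
      obtain ⟨e', he', hej⟩ := hW ▸ (mem_inf.2 ⟨j.2, h⟩ : (j : G) ∈ J ⊓ centralizer (Zs E : Set G))
      rwa [← Subtype.ext (a1 := e') (a2 := j) hej]
    · intro h
      exact (mem_inf.1 (hW.symm ▸ ⟨j, h, rfl⟩ : (j : G) ∈ J ⊓ centralizer (Zs E : Set G))).2
  have h := f.ker.card_mul_index
  rw [index_ker, hfk, D.card8, D.card_J] at h
  have h2 : Nat.card ↥f.range = 168 := by omega
  rw [card_SL32, ← h2]
  exact Nat.le_of_dvd Nat.card_pos f.range.card_subgroup_dvd_card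

end Hyp

end Cfsg.Agent.J4Pentad
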