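import Cfsg.Agent.Lib.J4Pentad.Checks
import Cfsg.Agent.Lib.J4V.Invol.Main
import Cfsg.Agent.Lib.J4V.Inst
import Cfsg.Agent.Lib.J4Seven.Fixed

/-!
# Janko four type: the pentad subgroup in the model of the normaliser of the subgroup of order `2 ^ 11`

A subgroup of order eight of involutions centralised by two pairs sharing a point and by an element of order
three permuting the three points lies in the subgroup of order `2 ^ 11`; its normaliser has a subgroup of order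
168 meeting the centraliser trivially.
-/

set_option autoImplicit false
set_option maxRecDepth 20000
set_option linter.style.haveILetI false
set_option linter.unusedSectionVars false

namespace Cfsg.Agent.J4Pentad

open Subgroup
open Cfsg Cfsg.Agent.Golay.Basic Cfsg.Agent.Golay.Cert Cfsg.Agent.Golay.TabList Cfsg.Agent.Golay.M24
open Cfsg.Agent.J4Local Cfsg.Agent.J4Eleven
open Cfsg.Agent.J4V.Split (NV VN)
open Cfsg.Agent.J4V.Invol
open Cfsg.Agent.J4V.Invol.Checks (vx repT repIm)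
open Cfsg.Agent.M24CocodeSplit.Checks (imgChk)
open Checks

universe u

local notation "pG" => Equiv.Perm GolayPt

variable {G : Type u} [Group G] [Finite G] {z : G} {P : Subgroup G}

/-- An involution of M24 fixes no point or eight. -/
theorem card_fixed_of_sq {β : pG} (hβ : β ∈ Cfsg.M24) (h2 : β * β = 1) (h1 : β ≠ 1) :
    Nat.card {p : GolayPt // β p = p} = 0 ∨ Nat.card {p : GolayPt // β p = p} = 8 := by
  classical
  have hord : orderOf (⟨β, hβ⟩ : ↥Cfsg.M24) = 2 := by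
    rw [← Subgroup.orderOf_coe]
    exact orderOf_eq_prime (by rw [pow_two]; exact h2) h1
  obtain ⟨c, n, hn, ht⟩ := exists_conj_rep hord
  set γ : pG := ((c * ⟨β, hβ⟩ * c⁻¹ : ↥Cfsg.M24) : pG) with hγ
  have hγv : γ = (c : pG) * β * (c : pG)⁻¹ := by rw [hγ]; rfl
  have e1 : Nat.card {p : GolayPt // β p = p} = Nat.card {p : GolayPt // γ p = p} :=
    Nat.card_congr ((c : pG).subtypeEquiv fun p => by simp [hγv])
  have e2 : Nat.card {p : GolayPt // γ p = p} =
      ((List.range 24).filter fun i => Nat.beq (tabAt (repT n) i) i).length := by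
    rw [Nat.card_eq_fintype_card, Fintype.card_subtype,
      ← List.toFinset_card_of_nodup (List.Nodup.filter _ List.nodup_range)]
    refine Finset.card_bij (fun p _ => ix p) (fun p hp => ?_) (fun p _ q _ e => ix_injective e) fun i hi => ?_
    · simp only [Finset.mem_filter, Finset.mem_univ, true_and] at hp
      simp only [List.mem_toFinset, List.mem_filter, List.mem_range]
      exact ⟨ix_lt p, by rw [← ht p, hp]; exact Nat.beq_refl _⟩
    · simp only [List.mem_toFinset, List.mem_filter, List.mem_range] at hi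
      refine ⟨pt i, ?_, ix_pt hi.1⟩
      simp only [Finset.mem_filter, Finset.mem_univ, true_and]
      refine ix_injective ?_
      rw [ht (pt i), ix_pt hi.1]
      exact Nat.eq_of_beq_eq_true hi.2
  have h := repFixOK_eq
  simp only [repFixOK, List.all_eq_true, List.mem_range, Bool.or_eq_true] at h
  rw [e1, e2]
  rcases h n hn with h | h
  exacts [Or.inl (Nat.eq_of_beq_eq_true h), Or.inr (Nat.eq_of_beq_eq_true h)]

variable [IsSimpleGroup G]

/-- The elements of orders seven and three, the pairs and the subgroup of order 168. -/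
theorem exists_kit (hG : ¬ IsMulCommutative G) (X : Chart z P) :
    ∃ x₀ s₀ w₁ w₂ : G, orderOf x₀ = 7 ∧ s₀ ^ 3 = 1 ∧ w₁ * w₁ = 1 ∧ w₂ * w₂ = 1 ∧
      s₀ * x₀ = x₀ * s₀ ∧ w₁ * x₀ = x₀ * w₁ ∧ w₂ * x₀ = x₀ * w₂ ∧
      ∀ Z : Subgroup G, Nat.card ↥Z = 8 → (∀ u ∈ Z, u * u = 1) →
        (∀ u ∈ Z, u * s₀ = s₀ * u ∧ u * w₁ = w₁ * u ∧ u * w₂ = w₂ * u) →
        ∃ K₂ : Subgroup G, Nat.card ↥K₂ = 168 ∧ K₂ ≤ normalizer (Z : Set G) ∧
          K₂ ⊓ centralizer (Z : Set G) = ⊥ := by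
  classical
  obtain ⟨φ, ε, e1, e2, e3, e4, e5⟩ := X.exists_phi_eps hG
  obtain ⟨M⟩ := exists_model hG (⟨φ, ε, e1, e2, e3, e4, e5⟩ : Ident X)
  have hh := headOK_eq
  simp only [headOK, Bool.and_eq_true, Bool.not_eq_true', Nat.blt_eq] at hh
  obtain ⟨⟨⟨⟨⟨⟨⟨⟨⟨⟨⟨⟨⟨⟨ha, hb⟩, hc⟩, hab⟩, hbc⟩, hac⟩, hxI⟩, hsI⟩, hx1⟩, hx7⟩, hs1⟩, hs3⟩, hxs⟩,
    hxab⟩, hxac⟩ := hh
  replace hab : Data.pa ≠ Data.pb := fun e => by rw [e, Nat.beq_refl] at hab; exact Bool.noConfusion hab
  replace hac : Data.pa ≠ Data.pc := fun e => by rw [e, Nat.beq_refl] at hac; exact Bool.noConfusion hac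
  replace hbc : Data.pb ≠ Data.pc := fun e => by rw [e, Nat.beq_refl] at hbc; exact Bool.noConfusion hbc
  have htab : ∀ {t : ℕ} {gi : List ℕ}, imgChk t gi = true → tabOK t = true ∧ canon t = true := fun {t gi} h => by
    simp only [imgChk, Bool.and_eq_true] at h
    exact ⟨h.1.1.1, h.1.1.2⟩
  obtain ⟨x₀, hxK, hxT⟩ := M.exists_K (htab hxI).1
  obtain ⟨s₀, hsK, hsT⟩ := M.exists_K (htab hsI).1
  have hone : M.Tab idTab (1 : G) := M.tab_one
  have hx0 : x₀ ≠ 1 := fun e => by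
    subst e
    obtain ⟨h, ht⟩ := hxT
    obtain ⟨h', ht'⟩ := hone
    have := eq_of_isTab (htab hxI).2 canon_idTab ht ht'
    rw [this, Nat.beq_refl] at hx1
    exact Bool.noConfusion hx1
  have hx77 : x₀ ^ 7 = 1 := by
    have ht := (((hxT.mul hxT).mul (hxT.mul hxT)).mul (hxT.mul hxT)).mul hxT
    rw [Nat.eq_of_beq_eq_true hx7] at ht
    have hk := mul_mem (mul_mem (mul_mem (mul_mem hxK hxK) (mul_mem hxK hxK)) (mul_mem hxK hxK)) hxK
    rw [← M.K_eq hk (one_mem _) ht hone]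
    simp only [pow_succ, pow_zero, one_mul, mul_assoc]
  have hs33 : s₀ ^ 3 = 1 := by
    have ht := (hsT.mul hsT).mul hsT
    rw [Nat.eq_of_beq_eq_true hs3] at ht
    rw [← M.K_eq (mul_mem (mul_mem hsK hsK) hsK) (one_mem _) ht hone]
    simp only [pow_succ, pow_zero, one_mul]
  have hsx : s₀ * x₀ = x₀ * s₀ := by
    have ht := hxT.mul hsT
    rw [Nat.eq_of_beq_eq_true hxs] at ht
    exact (M.K_eq (mul_mem hxK hsK) (mul_mem hsK hxK) ht (hsT.mul hxT)).symm
  have hd1 : vx Data.pa Data.pb ∈ Checks.duads := mem_duads ha hb hab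
  have hd2 : vx Data.pa Data.pc ∈ Checks.duads := mem_duads ha hc hac
  refine ⟨x₀, s₀, M.iv (vx Data.pa Data.pb), M.iv (vx Data.pa Data.pc),
    orderOf_eq_prime (hp := ⟨by norm_num⟩) hx77 hx0, hs33, M.iv_sq _, M.iv_sq _, hsx, ?_, ?_,
    fun Z hZ hZsq hZc => ?_⟩
  · have h := M.conj_iv hxI hxT (vx Data.pa Data.pb)
    rw [Nat.eq_of_beq_eq_true hxab] at h
    exact (mul_inv_eq_iff_eq_mul.1 h).symm
  · have h := M.conj_iv hxI hxT (vx Data.pa Data.pc)
    rw [Nat.eq_of_beq_eq_true hxac] at h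
    exact (mul_inv_eq_iff_eq_mul.1 h).symm
  -- such a subgroup lies in the elementary subgroup
  have hduad : ∀ {x : ℕ}, x ∈ Checks.duads →
      M.iv x ∈ X.std ∧ M.iv x ≠ 1 ∧ ¬ IsConj z (M.iv x) := fun {x} hx => by
    have hm : M.iv x ∈ M.duadSet := ⟨x, hx, rfl⟩
    rwa [← M.others_eq hG] at hm
  have hZN : ∀ u ∈ Z, u ∈ NV X.std := fun u hu =>
    X.centralizer_le_of_not_zt hG (hduad hd1).1 (hduad hd1).2.1 (hduad hd1).2.2
      (mem_centralizer_singleton_iff.2 (hZc u hu).2.1)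
  obtain ⟨hsN, hsTab⟩ := hsT
  set τ : pG := ((M.pr ⟨s₀, hsN⟩ : ↥Cfsg.M24) : pG) with hτ
  have hτfree : ∀ p, τ p ≠ p := fun p e => sT_free (ix p) (ix_lt p) (by rw [← hsTab p, e])
  have hτ3 : τ ^ 3 = 1 := by
    have h : (⟨s₀, hsN⟩ : ↥(NV X.std)) ^ 3 = 1 := Subtype.ext hs33
    rw [hτ, ← Subgroup.coe_pow, ← map_pow, h, map_one, Subgroup.coe_one]
  have hZstd : ∀ u ∈ Z, u ∈ X.std := fun u hu => by
    set g : ↥(NV X.std) := ⟨u, hZN u hu⟩ with hg
    set β : pG := ((M.pr g : ↥Cfsg.M24) : pG) with hβ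
    have himj : ∀ {i j : ℕ}, i < 24 → j < 24 → i ≠ j → M.im g i ≠ M.im g j := fun {i j} hi hj hne e => by
      have h2 := congrArg ix (β.injective (ix_injective e))
      rw [ix_pt hi, ix_pt hj] at h2
      exact hne h2
    have hpair : ∀ {i j : ℕ}, i < 24 → j < 24 → i ≠ j → u * M.iv (vx i j) = M.iv (vx i j) * u →
        (i = M.im g i ∧ j = M.im g j) ∨ (i = M.im g j ∧ j = M.im g i) := fun {i j} hi hj hne hcm => by
      have h := M.conj_pair (hZN u hu) hi hj
      rw [mul_inv_eq_iff_eq_mul.2 hcm] at h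
      exact pair_inj hi hj (ix_lt _) (ix_lt _) hne (himj hi hj hne) (M.iv_inj
        (duads_facts.2.2.2.2.2.2 _ (mem_duads hi hj hne))
        (duads_facts.2.2.2.2.2.2 _ (mem_duads (ix_lt _) (ix_lt _) (himj hi hj hne))) h)
    have hfix : M.im g Data.pa = Data.pa := by
      rcases hpair ha hb hab (hZc u hu).2.1 with h | h <;> rcases hpair ha hc hac (hZc u hu).2.2 with h' | h' <;>
        first | exact h.1.symm | exact h'.1.symm | (exfalso; exact himj hb hc hbc (h.1.symm.trans h'.1))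
    have hβa : β (pt Data.pa) = pt Data.pa := ix_injective (by rw [ix_pt ha]; exact hfix)
    have hβ2 : β * β = 1 := by
      have h : g * g = 1 := Subtype.ext (hZsq u hu)
      rw [hβ, ← Subgroup.coe_mul, ← map_mul, h, map_one, Subgroup.coe_one]
    have hcomm : ∀ p, β (τ p) = τ (β p) := fun p => by
      have h : g * ⟨s₀, hsN⟩ = ⟨s₀, hsN⟩ * g := Subtype.ext (hZc u hu).1
      have h' := congrArg (fun a => ((M.pr a : ↥Cfsg.M24) : pG) p) h
      simpa using h'
    have hβ1 : β = 1 := by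
      by_contra hne
      haveI : Fact (Nat.Prime 3) := ⟨Nat.prime_three⟩
      let f : {p : GolayPt // β p = p} → {p : GolayPt // β p = p} :=
        fun p => ⟨τ p.1, by rw [hcomm, p.2]⟩
      have hit : ∀ p, f^[3] p = p := fun p => Subtype.ext (by
        show τ (τ (τ p.1)) = p.1
        calc τ (τ (τ p.1)) = (τ ^ 3) p.1 := rfl
          _ = p.1 := by rw [hτ3]; rfl)
      have h := J4Seven.card_fixed_modEq (p := 3) f hit
      have h0 : Nat.card {p : {p : GolayPt // β p = p} // f p = p} = 0 :=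
        Nat.card_eq_zero.2 (Or.inl ⟨fun p => hτfree p.1.1 (congrArg Subtype.val p.2)⟩)
      rw [h0] at h
      haveI : Nonempty {p : GolayPt // β p = p} := ⟨⟨pt Data.pa, hβa⟩⟩
      have hpos : 0 < Nat.card {p : GolayPt // β p = p} := Nat.card_pos
      rcases card_fixed_of_sq (M.pr g).2 hβ2 hne with e | e <;> rw [e] at h hpos
      · omega
      · norm_num [Nat.ModEq] at h
    have h1 : M.pr g = 1 := Subtype.ext hβ1
    exact (Cfsg.Agent.M24CocodeSplit.Split.proj_eq_one (VN X.std) M.φ).1 h1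
  have hz := zsOK_eq
  simp only [zsOK, Bool.and_eq_true, List.all_eq_true, List.mem_range, Bool.or_eq_true, Bool.not_eq_true',
    Nat.blt_eq] at hz
  obtain ⟨⟨⟨⟨hzlen, hznd⟩, hz0⟩, hzlt⟩, hzfix⟩ := hz
  have hsIlt : ∀ y ∈ Data.sI, y < 2048 := by decide +kernel
  have hZeq : (Z : Set G) = {v | ∃ u ∈ Data.zs, M.iv u = v} := by
    refine Set.eq_of_subset_of_ncard_le (fun v hv => ?_) ?_ (Set.toFinite _)
    · obtain ⟨x, hx, rfl⟩ := M.exists_iv (hZstd v hv)
      have h := M.conj_iv hsI ⟨hsN, hsTab⟩ x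
      rw [mul_inv_eq_iff_eq_mul.2 (hZc _ hv).1.symm] at h
      have he := M.iv_inj hx (enc_lt _ hsIlt x) h
      refine ⟨x, ?_, rfl⟩
      rcases hzfix x hx with h' | h'
      · rw [← he, Nat.beq_refl] at h'; exact Bool.noConfusion h'
      · simpa using h'
    · rw [← Nat.card_coe_set_eq (Z : Set G), SetLike.coe_sort_coe, hZ]
      have e : {v : G | ∃ u ∈ Data.zs, M.iv u = v} = M.iv '' (↑Data.zs.toFinset : Set ℕ) := by
        ext v; simp
      rw [e]
      refine (Set.ncard_image_le (Finset.finite_toSet _)).trans ?_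
      rw [Set.ncard_coe_finset, List.toFinset_card_of_nodup (of_decide_eq_true hznd),
        Nat.eq_of_beq_eq_true hzlen]
  have hmemZ : ∀ {v : G}, v ∈ Z ↔ ∃ u ∈ Data.zs, M.iv u = v := fun {v} => Set.ext_iff.1 hZeq v
  -- the subgroup of order 168
  have he := elsOK_eq
  simp only [elsOK, Bool.and_eq_true, List.all_eq_true, List.mem_range, Nat.blt_eq, Bool.or_eq_true] at he
  obtain ⟨⟨⟨helen, hend⟩, he0⟩, hel⟩ := he
  have helT : ∀ i < 168, tabOK (el i) = true ∧ canon (el i) = true := fun i hi => htab (hel i hi).1.1.1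
  choose kk hkK hkT using fun (i : Fin 168) => M.exists_K (helT i.1 i.2).1
  have hgen : ∀ g < 2, tabOK (gen g) = true := by decide +kernel
  have hk0 : kk 0 = 1 := M.K_eq (hkK 0) (one_mem _) (hkT 0) (by
    rw [show el (0 : Fin 168).1 = idTab from Nat.eq_of_beq_eq_true he0]; exact hone)
  have hstep : ∀ (i : Fin 168) (g : ℕ), g < 2 → ∀ kg ∈ M.K, M.Tab (gen g) kg →
      ∃ l : Fin 168, kk i * kg = kk l := fun i g hg kg hkg hkgT => by
    obtain ⟨h1, h2⟩ := (hel i i.2).1.2 g hg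
    refine ⟨⟨st i g, h1⟩, M.K_eq (mul_mem (hkK i) hkg) (hkK _) ?_ (hkT _)⟩
    rw [show el (⟨st i g, h1⟩ : Fin 168).1 = mulTab (el i) (gen g) from (Nat.eq_of_beq_eq_true h2).symm]
    exact (hkT i).mul hkgT
  have hmul : ∀ (n : ℕ) (hn : n < 168) (i : Fin 168), ∃ l : Fin 168, kk i * kk ⟨n, hn⟩ = kk l := by
    intro n
    induction n using Nat.strong_induction_on with
    | _ n ih =>
      intro hn i
      rcases (hel n hn).2 with h | ⟨⟨⟨h1, h2⟩, h3⟩, -⟩
      · obtain rfl := Nat.eq_of_beq_eq_true h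
        exact ⟨i, by rw [show (⟨0, hn⟩ : Fin 168) = 0 from rfl, hk0, mul_one]⟩
      · obtain ⟨kg, hkg, hkgT⟩ := M.exists_K (hgen _ h2)
        have hj : (pr n).1 < 168 := h1.trans hn
        have e : kk ⟨n, hn⟩ = kk ⟨(pr n).1, hj⟩ * kg := M.K_eq (hkK _) (mul_mem (hkK _) hkg) (hkT _) (by
          rw [show el (⟨n, hn⟩ : Fin 168).1 = _ from Nat.eq_of_beq_eq_true h3]
          exact (hkT ⟨(pr n).1, hj⟩).mul hkgT)
        obtain ⟨l, hl⟩ := ih _ h1 hj i
        obtain ⟨l', hl'⟩ := hstep l _ h2 kg hkg hkgT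
        exact ⟨l', by rw [e, ← mul_assoc, hl, hl']⟩
  let S : Submonoid G :=
    { carrier := Set.range kk
      one_mem' := ⟨0, hk0⟩
      mul_mem' := by
        rintro _ _ ⟨i, rfl⟩ ⟨j, rfl⟩
        obtain ⟨l, hl⟩ := hmul j.1 j.2 i
        exact ⟨l, hl.symm⟩ }
  let K₂ : Subgroup G :=
    { S with
      inv_mem' := fun {a} ha => by
        rw [inv_eq_of_mul_eq_one_left (show a ^ (orderOf a - 1) * a = 1 by
          rw [← pow_succ, Nat.sub_add_cancel (orderOf_pos a), pow_orderOf_eq_one])]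
        exact S.pow_mem ha _ }
  have hinj : Function.Injective kk := fun i j e => by
    obtain ⟨h, ht⟩ := hkT i
    obtain ⟨h', ht'⟩ := hkT j
    have ht'' : IsTab (el j.1) ((M.pr ⟨kk i, h⟩ : ↥Cfsg.M24) : pG) := by
      have : (⟨kk i, h⟩ : ↥(NV X.std)) = ⟨kk j, h'⟩ := Subtype.ext e
      rw [this]; exact ht'
    have he2 := eq_of_isTab (helT i i.2).2 (helT j j.2).2 ht ht''
    have hlen := Nat.eq_of_beq_eq_true helen
    have hg2 : ∀ n (hn : n < 168), el n = Data.els[n]'(hlen ▸ hn) := fun n hn => List.getD_eq_getElem _ _ _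
    rw [hg2 i.1 i.2, hg2 j.1 j.2] at he2
    exact Fin.ext ((of_decide_eq_true hend : Data.els.Nodup).getElem_inj_iff.1 he2)
  have hnorm : ∀ (i : Fin 168) (u : ℕ), kk i * M.iv u * (kk i)⁻¹ = M.iv (enc (elI i) u) := fun i u =>
    M.conj_iv (hel i i.2).1.1.1 (hkT i) u
  have hencz : ∀ (i : Fin 168), ∀ u ∈ Data.zs, enc (elI i) u ∈ Data.zs := fun i u hu => by
    simpa using (hel i i.2).1.1.2 u hu
  refine ⟨K₂, ?_, ?_, ?_⟩
  · rw [show Nat.card ↥K₂ = Nat.card (Set.range kk) from rfl, Nat.card_range_of_injective hinj, Nat.card_fin]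
  · rintro _ ⟨i, rfl⟩
    refine M22Order.mem_normalizer_of_conj fun a ha => ?_
    obtain ⟨u, hu, rfl⟩ := hmemZ.1 ha
    rw [hnorm]
    exact hmemZ.2 ⟨_, hencz i u hu, rfl⟩
  · rw [eq_bot_iff]
    rintro _ ⟨⟨i, rfl⟩, hcen⟩
    rw [mem_bot]
    rcases (hel i i.2).2 with h | ⟨-, h⟩
    · rw [show i = 0 from Fin.ext (Nat.eq_of_beq_eq_true h), hk0]
    · obtain ⟨u, hu, hne⟩ := List.any_eq_true.1 h
      exfalso
      have h1 := mem_centralizer_iff.1 hcen _ (hmemZ.2 ⟨u, hu, rfl⟩)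
      have h2 := hnorm i u
      rw [mul_inv_eq_iff_eq_mul.2 h1.symm] at h2
      rw [← M.iv_inj (hzlt u hu) (hzlt _ (hencz i u hu)) h2, Nat.beq_refl] at hne
      exact Bool.noConfusion hne

end Cfsg.Agent.J4Pentad
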