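import Cfsg.Agent.Lib.J4Pentad.Main
import Cfsg.Agent.Lib.J4Pentad.Model
import Cfsg.Agent.Lib.Coprime.PGroup
import Cfsg.Prelude.Def_Transfer

/-!
# Janko four type: the two-local subgroup of shape `2 ^ (3 + 12) (S5 × L3(2))`
-/

set_option autoImplicit false
set_option linter.style.haveILetI false
set_option linter.unusedSectionVars false

namespace Cfsg.Agent.J4Pentad

open Subgroup
open scoped commutatorElement
open Cfsg.Agent.J4Local
open Cfsg.Agent.J4Eleven (Chart)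

universe u

variable {G : Type u} [Group G] [Finite G] {z : G} {P : Subgroup G}

/-- An element normalising a subgroup normalises its characteristic subgroups. -/
theorem char_conj {L : Subgroup G} (A : Subgroup ↥L) [A.Characteristic] {g : G}
    (hg : g ∈ normalizer (L : Set G)) {a : G} (ha : a ∈ A.map L.subtype) : g * a * g⁻¹ ∈ A.map L.subtype := by
  obtain ⟨x, hx, rfl⟩ := ha
  exact ⟨L.normalizerMonoidHom ⟨g, hg⟩ x,
    characteristic_iff_map_le.1 inferInstance (L.normalizerMonoidHom ⟨g, hg⟩) ⟨x, hx, rfl⟩, rfl⟩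

theorem J_inter {Q J : Subgroup G} {E : Subgroup ↥J} {q s : G} {I : Subgroup G} (F : Facts z P Q J E q s I) :
    ∀ x ∈ J, x * s = s * x → x ∈ zpowers s := by
  intro x hx hxs
  obtain ⟨hsI, -, hab, -, hsup⟩ := F.prodI
  have hx' : x ∈ centralizer (zpowers s : Set G) := by
    rw [centralizer_zpowers]; exact mem_centralizer_singleton_iff.2 hxs
  rw [← hsup] at hx'
  have hn : I ≤ normalizer (zpowers s : Set G) := fun i hi => M22Order.mem_normalizer_of_conj fun a ha => by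
    rw [← hab a ha i hi, mul_inv_cancel_right]; exact ha
  obtain ⟨a, ha, i, hi, rfl⟩ := (Coprime.mem_sup_of_le_normalizer hn).1 hx'
  have h1 : i ∈ J := by
    simpa using mul_mem (inv_mem (zpowers_le.2 F.sJ ha)) hx
  have h2 : i ∈ Hyp.Zs E ⊓ centralizer ({s} : Set G) :=
    ⟨F.meet ▸ mem_inf.2 ⟨h1, F.I_le hi⟩, mem_centralizer_singleton_iff.2 (hab s (mem_zpowers s) i hi).symm⟩
  rw [F.sfix, mem_bot] at h2
  rw [h2, mul_one]
  exact ha

variable [IsSimpleGroup G]

set_option maxHeartbeats 2000000 in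
/-- The statement on the subgroup, from the structure of the centraliser of a subgroup of order five. -/
theorem pentad (hG : ¬ IsMulCommutative G) (X : Chart z P) (h25 : ¬ 25 ∣ Nat.card G) {Q J : Subgroup G}
    {E : Subgroup ↥J} (D : Hyp z P Q J E) :
    ∃ L : Subgroup G, Cfsg.IsSpecial 2 ↥L ∧ Nat.card ↥L = 2 ^ 15 ∧ Nat.card ↥(Subgroup.center ↥L) = 8 ∧
    Nonempty (↥(Subgroup.normalizer (L : Set G)) ⧸ L.subgroupOf (Subgroup.normalizer (L : Set G)) ≃* Equiv.Perm (Fin 5) × Matrix.SpecialLinearGroup (Fin 3) (ZMod 2)) ∧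
    (∀ K : Subgroup ↥(Subgroup.normalizer (L : Set G)), ¬ (L.subgroupOf (Subgroup.normalizer (L : Set G))).IsComplement' K) ∧
    (∃ K₁ : Subgroup G, K₁ ≤ Subgroup.normalizer (L : Set G) ∧ Nonempty (↥K₁ ≃* Equiv.Perm (Fin 5))) ∧
    (∃ K₂ : Subgroup G, K₂ ≤ Subgroup.normalizer (L : Set G) ∧ Nonempty (↥K₂ ≃* Matrix.SpecialLinearGroup (Fin 3) (ZMod 2))) ∧
    (∃ Q : Sylow 5 G, Subgroup.normalizer ((Q : Subgroup G) : Set G) ≤ Subgroup.normalizer (L : Set G)) ∧
    (∃ S : Sylow 7 G, Subgroup.normalizer ((S : Subgroup G) : Set G) ≤ Subgroup.normalizer (L : Set G)) := by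
  classical
  haveI : Fact (Nat.Prime 7) := ⟨by norm_num⟩
  haveI : Fact (Nat.Prime 5) := ⟨by norm_num⟩
  haveI : Fact (Nat.Prime 2) := ⟨Nat.prime_two⟩
  haveI : IsSimpleGroup SL32 := LargeExtra.Fischer.sl3_simple
  have hJ := X.L.J
  obtain ⟨q, s, I, F⟩ := exists_facts hG X D
  obtain ⟨φ⟩ := F.isoI
  obtain ⟨ρ, hρ, hρk⟩ := D.quot
  set Zz := Hyp.Zs E with hZz
  set C := centralizer (Zz : Set G) with hC
  set M := normalizer (Zz : Set G) with hM
  set L := twoCore C with hL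
  obtain ⟨Φ, hΦ, hΦk⟩ : ∃ Φ : ↥M →* SL32, Function.Surjective Φ ∧ Φ.ker = C.subgroupOf M :=
    D.exists_act hG hJ
  have hCM : C ≤ M := fun c hc => M22Order.mem_normalizer_of_conj fun u hu => by
    rw [← mem_centralizer_iff.1 hc u hu, mul_inv_cancel_right]; exact hu
  have hMC : ∀ g ∈ M, g ∈ normalizer (C : Set G) := fun g hg => M22Order.mem_normalizer_of_conj fun c hc =>
    mem_centralizer_iff.2 fun u hu => by
      have h1 : g⁻¹ * u * g ∈ Zz := by
        simpa using M22Order.conj_mem_of_mem_normalizer (inv_mem hg) hu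
      have h2 := mem_centralizer_iff.1 hc _ h1
      calc u * (g * c * g⁻¹) = g * (g⁻¹ * u * g * c) * g⁻¹ := by group
        _ = _ := by rw [h2]; group
  have hLC : L ≤ C := twoCore_le C
  have hLn : ∀ g ∈ M, g ∈ normalizer (L : Set G) := fun g hg =>
    M22Order.mem_normalizer_of_conj fun l hl => twoCore_conj (hMC g hg) hl
  have hJM : J ≤ M := fun j hj => D.CQ_le (D.J_le hj)
  have hsM : s ∈ M := hJM F.sJ
  have hqQ : q ∈ Q := F.qQ ▸ mem_zpowers q
  have hqM : q ∈ M := hCM (F.I_le F.qI)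
  have hIM : I ≤ M := F.I_le.trans hCM
  have hs7 : s ^ 7 = 1 := F.s7 ▸ pow_orderOf_eq_one s
  have hq5 : q ^ 5 = 1 := F.q5 ▸ pow_orderOf_eq_one q
  have hIs : ∀ i ∈ I, i * s = s * i := fun i hi => (F.prodI.2.2.1 s (mem_zpowers s) i hi).symm
  -- subgroups between the centre and the whole
  have hdich : ∀ A : Subgroup G, Zz ≤ A → A ≤ L → (∀ g ∈ M, ∀ a ∈ A, g * a * g⁻¹ ∈ A) → A = Zz ∨ A = L := by
    intro A hZA hAL hn
    obtain ⟨i, hi, he⟩ := (Nat.dvd_prime_pow Nat.prime_two).1 (F.cardL ▸ card_dvd_of_le hAL)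
    have h1 := J4Seven.card_conj_fixed (p := 5) hq5 A fun v hv => hn q hqM v hv
    have e1 : A ⊓ centralizer ({q} : Set G) = Zz := by
      rw [← centralizer_zpowers, ← F.qQ]
      exact le_antisymm (fun x hx => (SetLike.ext_iff.1 F.LQ x).1 (mem_inf.2 ⟨hAL hx.1, hx.2⟩))
        (le_inf hZA ((Hyp.Zs_le E).trans D.J_le))
    rw [e1, D.card_Zs, he] at h1
    have h2 := J4Seven.card_conj_fixed (p := 7) hs7 A fun v hv => hn s hsM v hv
    have e2 : A ⊓ centralizer ({s} : Set G) = ⊥ := eq_bot_iff.2 ((inf_le_inf_right _ hAL).trans_eq F.Ls)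
    rw [e2, card_bot, he] at h2
    unfold Nat.ModEq at h1 h2
    have h3 : 2 ^ 3 ∣ 2 ^ i := by
      have h := card_dvd_of_le hZA
      rwa [D.card_Zs, he] at h
    rw [Nat.pow_dvd_pow_iff_le_right one_lt_two] at h3
    interval_cases i
    all_goals first
      | omega
      | (refine Or.inl (eq_of_le_of_card_ge hZA (le_of_eq ?_)).symm; rw [he, D.card_Zs]; norm_num; done)
      | (refine Or.inr (eq_of_le_of_card_ge hAL (le_of_eq ?_)); rw [he, F.cardL])
  set Zc := (center ↥L).map L.subtype with hZc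
  have hZcle : Zc ≤ L := map_subtype_le _
  have hZZc : Zz ≤ Zc := fun u hu => ⟨⟨u, F.Z_le hu⟩, mem_center_iff.2 fun x => Subtype.ext
    ((mem_centralizer_iff.1 (hLC x.2) u hu).symm), rfl⟩
  have hcenter : Zc = Zz := by
    rcases hdich Zc hZZc hZcle fun g hg a ha => char_conj _ (hLn g hg) ha with h | h
    · exact h
    · exfalso
      refine F.noncomm fun a ha b hb => ?_
      obtain ⟨x, hx, rfl⟩ : a ∈ Zc := h.symm ▸ ha
      exact (congrArg Subtype.val (mem_center_iff.1 hx ⟨b, hb⟩)).symm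
  have hcentcard : Nat.card ↥(center ↥L) = 8 := by
    rw [← card_map_of_injective L.subtype_injective, ← hZc, hcenter, D.card_Zs]
  have hNL : normalizer (L : Set G) = M := le_antisymm (fun g hg => M22Order.mem_normalizer_of_conj fun u hu =>
    hcenter ▸ char_conj (center ↥L) hg (hcenter.symm ▸ hu : u ∈ Zc)) hLn
  -- the group is special
  have hspecial : Cfsg.IsSpecial 2 ↥L := by
    haveI : Group.IsNilpotent ↥L := (isPGroup_twoCore C).isNilpotent
    have hfr : frattini ↥L ≤ center ↥L := by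
      rcases hdich ((frattini ↥L).map L.subtype ⊔ Zz) le_sup_right (sup_le (map_subtype_le _) F.Z_le)
        (fun g hg a ha => by
          rw [← hcenter, hZc, ← Subgroup.map_sup] at ha ⊢
          haveI : (frattini ↥L ⊔ center ↥L).Characteristic := inferInstance
          exact char_conj _ (hLn g hg) ha) with h | h
      · refine (map_le_map_iff_of_injective L.subtype_injective).1 ?_
        rw [← hZc, hcenter, ← h]
        exact le_sup_left
      · exfalso
        rw [← hcenter, hZc, ← Subgroup.map_sup] at h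
        have h1 : frattini ↥L ⊔ center ↥L = ⊤ := Subgroup.map_injective L.subtype_injective
          (h.trans (MonoidHom.range_eq_map L.subtype ▸ L.range_subtype.symm))
        have h2 : center ↥L = ⊤ := frattini_nongenerating (by rw [sup_comm]; exact h1)
        exact F.noncomm fun a ha b hb =>
          congrArg Subtype.val (mem_center_iff.1 (h2 ▸ mem_top (⟨b, hb⟩ : ↥L)) ⟨a, ha⟩)
    have hcf : commutator ↥L ≤ frattini ↥L := Coprime.commutator_le_frattini ↥L
    have hcc : commutator ↥L = center ↥L := by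
      refine eq_of_le_of_card_ge (hcf.trans hfr) (le_of_eq ?_)
      set A := (commutator ↥L).map L.subtype with hA
      have hAZ : A ≤ Zz := hcenter ▸ Subgroup.map_mono (hcf.trans hfr)
      have h1 := J4Seven.card_conj_fixed (p := 7) hs7 A fun v hv => char_conj _ (hLn s hsM) hv
      have e : A ⊓ centralizer ({s} : Set G) = ⊥ := eq_bot_iff.2 ((inf_le_inf_right _ hAZ).trans_eq F.sfix)
      rw [e, card_bot] at h1
      have h2 := D.card_Zs ▸ card_dvd_of_le hAZ
      have hne : Nat.card ↥A ≠ 1 := fun e1 => F.noncomm fun a ha b hb => by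
        rw [card_eq_one, hA, map_eq_bot_iff_of_injective _ L.subtype_injective] at e1
        have h3 : ⁅(⟨a, ha⟩ : ↥L), ⟨b, hb⟩⁆ ∈ commutator ↥L := commutator_mem_commutator (mem_top _) (mem_top _)
        rw [e1, mem_bot, commutatorElement_eq_one_iff_mul_comm] at h3
        exact congrArg Subtype.val h3
      rw [← card_map_of_injective (K := commutator ↥L) L.subtype_injective, ← hA, hcentcard]
      have h8 := Nat.le_of_dvd (by norm_num) h2
      unfold Nat.ModEq at h1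
      interval_cases h : Nat.card ↥A <;> simp_all
    exact ⟨isPGroup_twoCore C, le_antisymm hfr (hcc ▸ hcf), hcc⟩
  refine ⟨L, hspecial, F.cardL, hcentcard, ?_⟩
  suffices key : ∀ (N : Subgroup G) [(L.subgroupOf N).Normal], N = M →
      Nonempty (↥N ⧸ L.subgroupOf N ≃* Equiv.Perm (Fin 5) × SL32) ∧
      (∀ K : Subgroup ↥N, ¬ (L.subgroupOf N).IsComplement' K) ∧
      (∃ K₁ : Subgroup G, K₁ ≤ N ∧ Nonempty (↥K₁ ≃* Equiv.Perm (Fin 5))) ∧
      (∃ K₂ : Subgroup G, K₂ ≤ N ∧ Nonempty (↥K₂ ≃* SL32)) ∧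
      (∃ Q : Sylow 5 G, Subgroup.normalizer ((Q : Subgroup G) : Set G) ≤ N) ∧
      (∃ S : Sylow 7 G, Subgroup.normalizer ((S : Subgroup G) : Set G) ≤ N) from key _ hNL
  intro N _ hNM
  subst hNM
  set Lm := L.subgroupOf M with hLm
  haveI : Lm.Normal := ⟨fun l hl g => mem_subgroupOf.2
    (M22Order.conj_mem_of_mem_normalizer (hLn g g.2) (mem_subgroupOf.1 hl))⟩
  have hLM : L ≤ M := hLC.trans hCM
  have hcardLm : Nat.card ↥Lm = 2 ^ 15 := (Nat.card_congr (subgroupOfEquivOfLe hLM).toEquiv).trans F.cardL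
  have hcardM : Nat.card ↥M = 2 ^ 15 * 120 * 168 := by
    have h := Φ.ker.card_mul_index
    rw [index_ker, MonoidHom.range_eq_top.2 hΦ, Nat.card_congr topEquiv.toEquiv, card_SL32, hΦk] at h
    have h2 : Nat.card ↥(C.subgroupOf M) = 2 ^ 15 * 120 :=
      (Nat.card_congr (subgroupOfEquivOfLe hCM).toEquiv).trans F.cardC
    have h' : Nat.card ↥(C.subgroupOf M) * 168 = Nat.card ↥M := h
    rw [h2] at h'
    omega
  have hI120 : Nat.card ↥I = 120 := by
    rw [Nat.card_congr φ.toEquiv, Nat.card_perm, Nat.card_fin]; decide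
  -- elements of the second factor act trivially on the quotient of the centraliser
  have hW : ∀ j ∈ J, ∀ c ∈ C, j * c * j⁻¹ * c⁻¹ ∈ L := by
    let W : Subgroup G :=
      { carrier := {g | g ∈ M ∧ ∀ c ∈ C, g * c * g⁻¹ * c⁻¹ ∈ L}
        one_mem' := ⟨one_mem _, fun c _ => by simp⟩
        mul_mem' := fun {a b} ha hb => ⟨mul_mem ha.1 hb.1, fun c hc => by
          rw [show a * b * c * (a * b)⁻¹ * c⁻¹ = a * (b * c * b⁻¹ * c⁻¹) * a⁻¹ * (a * c * a⁻¹ * c⁻¹) by group]
          exact mul_mem (M22Order.conj_mem_of_mem_normalizer (hLn a ha.1) (hb.2 c hc)) (ha.2 c hc)⟩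
        inv_mem' := fun {a} ha => ⟨inv_mem ha.1, fun c hc => by
          rw [show a⁻¹ * c * a⁻¹⁻¹ * c⁻¹ = a⁻¹ * (a * c * a⁻¹ * c⁻¹)⁻¹ * a⁻¹⁻¹ by group]
          exact M22Order.conj_mem_of_mem_normalizer (hLn _ (inv_mem ha.1)) (inv_mem (ha.2 c hc))⟩ }
    have hLI : L ⊔ I = C := by
      refine eq_of_le_of_card_ge (sup_le hLC F.I_le) ?_
      rw [Coprime.card_sup_of_disjoint (fun i hi => hLn i (hIM hi)) (disjoint_iff_inf_le.2 fun x hx => by
        rw [← F.Ls]; exact ⟨hx.1, mem_centralizer_singleton_iff.2 (hIs x hx.2)⟩), F.cardL, hI120, F.cardC]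
    have hsW : s ∈ W := ⟨hsM, fun c hc => by
      rw [← hLI] at hc
      obtain ⟨l, hl, i, hi, rfl⟩ :=
        (Coprime.mem_sup_of_le_normalizer (fun i hi => hLn i (hIM hi))).1 hc
      rw [show s * (l * i) * s⁻¹ * (l * i)⁻¹ = (s * l * s⁻¹) * (s * i * s⁻¹ * i⁻¹) * l⁻¹ by group,
        ← hIs i hi, mul_inv_cancel_right, mul_inv_cancel, mul_one]
      exact mul_mem (M22Order.conj_mem_of_mem_normalizer (hLn s hsM) hl) (inv_mem hl)⟩
    have hWn : (W.subgroupOf J).Normal := ⟨fun w hw j => by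
      obtain ⟨hwM, hwc⟩ := mem_subgroupOf.1 hw
      refine mem_subgroupOf.2 ⟨mul_mem (mul_mem (hJM j.2) hwM) (inv_mem (hJM j.2)), fun c hc => ?_⟩
      have hc' : (j : G)⁻¹ * c * j ∈ C := by
        simpa using M22Order.conj_mem_of_mem_normalizer (hMC _ (inv_mem (hJM j.2))) hc
      push_cast
      rw [show (j : G) * w * (j : G)⁻¹ * c * ((j : G) * w * (j : G)⁻¹)⁻¹ * c⁻¹ =
        j * ((w : G) * ((j : G)⁻¹ * c * j) * (w : G)⁻¹ * ((j : G)⁻¹ * c * j)⁻¹) * (j : G)⁻¹ by group]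
      exact M22Order.conj_mem_of_mem_normalizer (hLn _ (hJM j.2)) (hwc _ hc')⟩
    intro j hj
    rcases IsSimpleGroup.eq_bot_or_eq_top_of_normal _ (hWn.map ρ hρ) with h | h
    · exfalso
      have h1 : (⟨s, F.sJ⟩ : ↥J) ∈ E := (SetLike.ext_iff.1 hρk _).1
        (MonoidHom.mem_ker.2 (mem_bot.1 (h ▸ mem_map_of_mem ρ (mem_subgroupOf.2 hsW : (⟨s, F.sJ⟩ : ↥J) ∈ W.subgroupOf J))))
      have h2 : s ∈ Zz ⊓ centralizer ({s} : Set G) := ⟨⟨_, h1, rfl⟩, mem_centralizer_singleton_iff.2 rfl⟩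
      rw [F.sfix, mem_bot] at h2
      have h3 := F.s7
      rw [h2, orderOf_one] at h3
      omega
    · obtain ⟨b, hb, e⟩ : ρ ⟨j, hj⟩ ∈ (W.subgroupOf J).map ρ := h ▸ mem_top _
      have h1 : b⁻¹ * ⟨j, hj⟩ ∈ E := (SetLike.ext_iff.1 hρk _).1 (by
        rw [MonoidHom.mem_ker, map_mul, map_inv, e, inv_mul_cancel])
      have h2 : ((b⁻¹ * ⟨j, hj⟩ : ↥J) : G) ∈ W := by
        have hu : ((b⁻¹ * ⟨j, hj⟩ : ↥J) : G) ∈ Zz := ⟨_, h1, rfl⟩
        refine ⟨hLM (F.Z_le hu), fun c hc => ?_⟩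
        rw [mem_centralizer_iff.1 hc _ hu, mul_inv_cancel_right, mul_inv_cancel]
        exact one_mem _
      have h3 : ((b : ↥J) : G) * ((b⁻¹ * ⟨j, hj⟩ : ↥J) : G) ∈ W := mul_mem (mem_subgroupOf.1 hb) h2
      rw [← Subgroup.coe_mul, mul_inv_cancel_left] at h3
      exact h3.2
  have hquot : Nonempty (↥M ⧸ Lm ≃* Equiv.Perm (Fin 5) × SL32) := by
    let Ψ : ↥I × ↥J →* ↥M ⧸ Lm :=
      { toFun := fun a => QuotientGroup.mk (⟨(a.1 : G) * a.2, mul_mem (hIM a.1.2) (hJM a.2.2)⟩ : ↥M)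
        map_one' := (QuotientGroup.eq_one_iff _).2 (mem_subgroupOf.2 (by simp))
        map_mul' := fun a b => by
          rw [← QuotientGroup.mk_mul, QuotientGroup.eq, hLm, mem_subgroupOf]
          push_cast
          simp only [Prod.fst_mul, Prod.snd_mul, Subgroup.coe_mul]
          have hc := hW (a.2 : G)⁻¹ (inv_mem a.2.2) (b.1 : G)⁻¹ (inv_mem (F.I_le b.1.2))
          rw [show ((a.1 : G) * b.1 * (a.2 * b.2))⁻¹ * ((a.1 : G) * a.2 * (b.1 * b.2)) =
            (b.2 : G)⁻¹ * ((a.2 : G)⁻¹ * (b.1 : G)⁻¹ * (a.2 : G)⁻¹⁻¹ * (b.1 : G)⁻¹⁻¹) * (b.2 : G)⁻¹⁻¹ by group]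
          exact M22Order.conj_mem_of_mem_normalizer (hLn _ (inv_mem (hJM b.2.2))) hc }
    let π : ↥I × ↥J →* Equiv.Perm (Fin 5) × SL32 := MonoidHom.prodMap φ.toMonoidHom ρ
    have hπ : Function.Surjective π := fun ⟨x, y⟩ => by
      obtain ⟨b, rfl⟩ := hρ y
      exact ⟨(φ.symm x, b), Prod.ext (φ.apply_symm_apply x) rfl⟩
    have hker : Ψ.ker = π.ker := by
      ext ⟨i, j⟩
      show Ψ (i, j) = 1 ↔ (φ i, ρ j) = 1
      rw [show Ψ (i, j) = QuotientGroup.mk (⟨(i : G) * j, _⟩ : ↥M) from rfl, QuotientGroup.eq_one_iff, hLm,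
        mem_subgroupOf, Prod.mk_eq_one, φ.map_eq_one_iff, ← MonoidHom.mem_ker, hρk]
      show (i : G) * j ∈ L ↔ _
      constructor
      · intro h
        have hjC : (j : G) ∈ C := by
          have h' : (i : G)⁻¹ * (i * j) ∈ C := mul_mem (inv_mem (F.I_le i.2)) (hLC h)
          rwa [inv_mul_cancel_left] at h'
        obtain ⟨e', he', hej⟩ := F.meet ▸ (mem_inf.2 ⟨j.2, hjC⟩ : (j : G) ∈ J ⊓ C)
        have hjE : j ∈ E := Subtype.ext (a1 := e') (a2 := j) hej ▸ he'
        have hi : (i : G) ∈ L := by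
          simpa using mul_mem h (inv_mem (F.Z_le ⟨j, hjE, rfl⟩))
        have h1 : (i : G) ∈ L ⊓ centralizer ({s} : Set G) := ⟨hi, mem_centralizer_singleton_iff.2 (hIs _ i.2)⟩
        rw [F.Ls, mem_bot] at h1
        exact ⟨Subtype.ext h1, hjE⟩
      · rintro ⟨rfl, hj⟩
        rw [OneMemClass.coe_one, one_mul]
        exact F.Z_le ⟨j, hj, rfl⟩
    have hΨ : Function.Surjective Ψ := by
      refine MonoidHom.range_eq_top.1 (eq_top_of_card_eq _ ?_)
      have h1 := Ψ.ker.card_mul_index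
      have h2 := π.ker.card_mul_index
      rw [index_ker, hker] at h1
      rw [index_ker, MonoidHom.range_eq_top.2 hπ, Nat.card_congr topEquiv.toEquiv] at h2
      have h3 := Nat.eq_of_mul_eq_mul_left Nat.card_pos (h1.trans h2.symm)
      have h4 := card_eq_card_quotient_mul_card_subgroup Lm
      rw [hcardM, hcardLm] at h4
      rw [h3, Nat.card_prod, Nat.card_perm, Nat.card_fin, card_SL32, show Nat.factorial 5 = 120 from rfl]
      omega
    exact ⟨(QuotientGroup.quotientKerEquivOfSurjective Ψ hΨ).symm.trans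
      ((QuotientGroup.quotientMulEquivOfEq hker).trans (QuotientGroup.quotientKerEquivOfSurjective π hπ))⟩
  refine ⟨hquot, fun K hK => ?_, ⟨I, hIM, ⟨φ⟩⟩, ?_, ?_, ?_⟩
  · -- no complement
    have h5 : 5 ∣ Nat.card ↥K := by
      have h := hK.card_mul_card
      rw [hcardLm, hcardM] at h
      exact ⟨24 * 168, Nat.eq_of_mul_eq_mul_left (by norm_num : 0 < 2 ^ 15) (by linarith)⟩
    have hM25 : (Nat.card ↥M).factorization 5 = 1 := by
      have h1 : 1 ≤ (Nat.card ↥M).factorization 5 :=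
        (Nat.Prime.pow_dvd_iff_le_factorization (by norm_num) Nat.card_pos.ne').1 (by rw [hcardM]; norm_num)
      have h2 : ¬ 2 ≤ (Nat.card ↥M).factorization 5 := fun h => by
        have h3 := (Nat.Prime.pow_dvd_iff_le_factorization (p := 5) (by norm_num) Nat.card_pos.ne').2 h
        rw [hcardM] at h3; norm_num at h3
      omega
    obtain ⟨⟨k5, hk5⟩, hk5o⟩ := exists_prime_orderOf_dvd_card' (G := ↥K) 5 h5
    rw [Subgroup.orderOf_mk] at hk5o
    let S1 : Sylow 5 ↥M := Sylow.ofCard (zpowers k5) (by rw [Nat.card_zpowers, hk5o, hM25, pow_one])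
    let S2 : Sylow 5 ↥M := Sylow.ofCard (zpowers ⟨q, hqM⟩)
      (by rw [Nat.card_zpowers, Subgroup.orderOf_mk, F.q5, hM25, pow_one])
    obtain ⟨m, hm⟩ := MulAction.exists_smul_eq ↥M S1 S2
    have hqK : m⁻¹ * ⟨q, hqM⟩ * m ∈ K := by
      have h1 : (⟨q, hqM⟩ : ↥M) ∈ ((m • S1 : Sylow 5 ↥M) : Subgroup ↥M) := by
        rw [hm]; exact mem_zpowers _
      rw [Sylow.coe_subgroup_smul] at h1
      obtain ⟨w, hw, e⟩ := h1
      rw [← e]
      simpa [mul_assoc] using (zpowers_le.2 hk5) hw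
    set K1 := (K.map (MulAut.conj m).toMonoidHom).map M.subtype with hK1
    have hqK1 : q ∈ K1 := ⟨⟨q, hqM⟩, ⟨_, hqK, by
      show m * (m⁻¹ * ⟨q, hqM⟩ * m) * m⁻¹ = ⟨q, hqM⟩; group⟩, rfl⟩
    have hKL : ∀ x ∈ K1, x ∈ L → x = 1 := by
      rintro _ ⟨_, ⟨k, hk, rfl⟩, rfl⟩ hx
      have h1 : m * k * m⁻¹ ∈ Lm := mem_subgroupOf.2 hx
      have h2 : k ∈ Lm := by
        simpa [mul_assoc] using Normal.conj_mem inferInstance _ h1 m⁻¹
      have h3 : k ∈ Lm ⊓ K := ⟨h2, hk⟩
      rw [hK.disjoint.eq_bot, mem_bot] at h3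
      rw [h3, map_one, map_one]
    have hdec : ∀ g ∈ M, ∃ l ∈ L, ∃ k ∈ K1, g = l * k := fun g hg => by
      obtain ⟨⟨⟨l, hl⟩, ⟨k, hk⟩⟩, hlk, -⟩ := hK.existsUnique (m⁻¹ * ⟨g, hg⟩ * m)
      refine ⟨((m * l * m⁻¹ : ↥M) : G), mem_subgroupOf.1 (Normal.conj_mem inferInstance _ hl m), _,
        ⟨_, ⟨k, hk, rfl⟩, rfl⟩, ?_⟩
      have h1 : (⟨g, hg⟩ : ↥M) = m * l * m⁻¹ * (m * k * m⁻¹) := by
        calc (⟨g, hg⟩ : ↥M) = m * (m⁻¹ * ⟨g, hg⟩ * m) * m⁻¹ := by group
          _ = _ := by rw [← hlk]; group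
      exact congrArg Subtype.val h1
    refine D.nonsplit ((K1 ⊓ J).subgroupOf J) (isComplement'_of_disjoint_and_mul_eq_univ
      (disjoint_iff_inf_le.2 fun x hx => mem_bot.2 (Subtype.ext (hKL x (mem_subgroupOf.1 hx.2).1
        (F.Z_le ⟨x, hx.1, rfl⟩)))) (Set.eq_univ_of_forall fun j => ?_))
    obtain ⟨l, hl, k, hk, e⟩ := hdec j (hJM j.2)
    have hjq : (j : G) * q = q * j := (D.comm hqQ j.2).symm
    have hk1 : k = l⁻¹ * j := by rw [e]; group
    have hkq : k * q * k⁻¹ * q⁻¹ = 1 := hKL _ (mul_mem (mul_mem (mul_mem hk hqK1) (inv_mem hk)) (inv_mem hqK1)) (by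
      rw [hk1, show l⁻¹ * j * q * (l⁻¹ * j)⁻¹ * q⁻¹ = l⁻¹ * ((j : G) * q * (j : G)⁻¹ * l * q⁻¹) by group, hjq,
        mul_inv_cancel_right]
      exact mul_mem (inv_mem hl) (M22Order.conj_mem_of_mem_normalizer (hLn q hqM) hl))
    have hkc : k * q = q * k := by
      calc k * q = k * q * k⁻¹ * q⁻¹ * (q * k) := by group
        _ = _ := by rw [hkq, one_mul]
    have hlZ : l ∈ Zz := by
      refine (SetLike.ext_iff.1 F.LQ l).1 (mem_inf.2 ⟨hl, ?_⟩)
      rw [F.qQ, centralizer_zpowers]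
      have h1 : l = j * k⁻¹ := by rw [e]; group
      exact h1 ▸ mul_mem (mem_centralizer_singleton_iff.2 hjq) (inv_mem (mem_centralizer_singleton_iff.2 hkc))
    obtain ⟨e', he', hel⟩ := hlZ
    have hkJ : k ∈ J := hk1 ▸ mul_mem (inv_mem (hel ▸ e'.2)) j.2
    exact ⟨e', he', ⟨k, hkJ⟩, mem_subgroupOf.2 ⟨hk, hkJ⟩, Subtype.ext (by
      show (e' : G) * k = j
      rw [show (e' : G) = l from hel, e])⟩
  · -- the linear group
    obtain ⟨x₀, s₀, w₁, w₂, hx7, hs3, hw1, hw2, hsx, hw1x, hw2x, hkit⟩ := exists_kit hG X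
    obtain ⟨c, -, hc⟩ := J4Seven.conj_in (K := (⊤ : Subgroup G))
      (by rw [Nat.card_congr topEquiv.toEquiv]; exact F.h49) (mem_top x₀) (mem_top s) hx7 F.s7
    have hin : ∀ {w : G} {n : ℕ}, w * x₀ = x₀ * w → w ^ n = 1 → n.Coprime 7 → ∀ u ∈ Zz,
        c⁻¹ * u * c * w = w * (c⁻¹ * u * c) := fun {w n} hw hwn hco u hu => by
      have h1 : c * w * c⁻¹ ∈ I := by
        refine mem_right F.prodI ?_ (m := n) (by rw [conj_pow, hwn, mul_one, mul_inv_cancel])
          (by rw [Nat.card_zpowers, F.s7]; exact hco)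
        rw [← hc, centralizer_zpowers, mem_centralizer_singleton_iff, conj_mul, conj_mul, hw]
      have h2 := mem_centralizer_iff.1 (F.I_le h1) u hu
      calc c⁻¹ * u * c * w = c⁻¹ * (u * (c * w * c⁻¹)) * c := by group
        _ = _ := by rw [h2]; group
    obtain ⟨K, hKc, hKn, hKd⟩ := hkit (cjS c⁻¹ Zz) (by rw [card_cjS, D.card_Zs]) (by
      rintro _ ⟨u, hu, rfl⟩
      rw [← map_mul, D.sq hu, map_one]) (by
      intro u hu
      rw [mem_cjS, inv_inv] at hu
      have e : u = c⁻¹ * (c * u * c⁻¹) * c := by group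
      rw [e]
      exact ⟨hin hsx hs3 (by norm_num) _ hu, hin hw1x (n := 2) (by rw [pow_two, hw1]) (by norm_num) _ hu,
        hin hw2x (n := 2) (by rw [pow_two, hw2]) (by norm_num) _ hu⟩)
    have hle : cjS c K ≤ M := by
      have h1 : cjS c (normalizer (cjS c⁻¹ Zz : Set G)) = M := by
        rw [cjS_normalizer, show cjS c (cjS c⁻¹ Zz) = Zz by ext v; simp [mul_assoc]]
      exact h1 ▸ Subgroup.map_mono hKn
    let f : ↥(cjS c K) →* SL32 := Φ.comp (inclusion hle)
    have hinj : Function.Injective f := (injective_iff_map_eq_one f).2 fun a ha => by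
      have h1 : inclusion hle a ∈ Φ.ker := ha
      rw [hΦk, mem_subgroupOf] at h1
      change (a : G) ∈ C at h1
      have h2 : c⁻¹ * (a : G) * c ∈ K ⊓ centralizer (cjS c⁻¹ Zz : Set G) := by
        refine ⟨mem_cjS.1 a.2, mem_centralizer_iff.2 fun v hv => ?_⟩
        rw [SetLike.mem_coe, mem_cjS, inv_inv] at hv
        have h3 := mem_centralizer_iff.1 h1 _ hv
        calc v * (c⁻¹ * a * c) = c⁻¹ * (c * v * c⁻¹ * a) * c := by group
          _ = _ := by rw [h3]; group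
      rw [hKd, mem_bot] at h2
      refine Subtype.ext ?_
      calc (a : G) = c * (c⁻¹ * a * c) * c⁻¹ := by group
        _ = 1 := by rw [h2, mul_one, mul_inv_cancel]
    exact ⟨cjS c K, hle, ⟨MulEquiv.ofBijective f ((Nat.bijective_iff_injective_and_card f).2
      ⟨hinj, by rw [card_cjS, hKc, card_SL32]⟩)⟩⟩
  · -- a Sylow five-subgroup
    have h5 : (Nat.card G).factorization 5 = 1 := by
      have h1 : 1 ≤ (Nat.card G).factorization 5 := (Nat.Prime.pow_dvd_iff_le_factorization (by norm_num)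
        Nat.card_pos.ne').1 (by rw [pow_one, ← F.q5]; exact orderOf_dvd_natCard q)
      have h2 : ¬ 2 ≤ (Nat.card G).factorization 5 := fun h => h25
        ((Nat.Prime.pow_dvd_iff_le_factorization (p := 5) (by norm_num) Nat.card_pos.ne').2 h)
      omega
    exact ⟨Sylow.ofCard Q (by rw [D.card5, h5, pow_one]), D.NQ_le⟩
  · -- a Sylow seven-subgroup
    have h7 : (Nat.card G).factorization 7 = 1 := J4Seven.fac_seven Nat.card_pos.ne'
      (F.s7 ▸ orderOf_dvd_natCard s) F.h49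
    refine ⟨Sylow.ofCard (zpowers s) (by rw [Nat.card_zpowers, F.s7, h7, pow_one]), ?_⟩
    show normalizer (zpowers s : Set G) ≤ M
    set Cs := centralizer (zpowers s : Set G) with hCs
    set N := normalizer (zpowers s : Set G) with hN
    set NM := N ⊓ M
    have hCsN : Cs ≤ NM := by
      refine le_inf (fun g hg => M22Order.mem_normalizer_of_conj fun a ha => ?_) ?_
      · rw [← mem_centralizer_iff.1 hg a ha, mul_inv_cancel_right]; exact ha
      · rw [hCs, ← F.prodI.2.2.2.2]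
        exact sup_le (zpowers_le.2 hsM) hIM
    obtain ⟨n, hnJ, hnN, hns⟩ : ∃ n ∈ J, n ∈ N ∧ n * s ≠ s * n := by
      by_contra hcon
      push Not at hcon
      let S : Sylow 7 ↥J := Sylow.ofCard (zpowers ⟨s, F.sJ⟩) (by
        rw [Nat.card_zpowers, Subgroup.orderOf_mk, F.s7, J4Seven.fac_seven Nat.card_pos.ne'
          (by rw [D.card_J]; norm_num) (by rw [D.card_J]; norm_num), pow_one])
      have hn1 := card_sylow_modEq_one 7 ↥J
      rw [S.card_eq_index_normalizer] at hn1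
      have hle : normalizer (S : Set ↥J) ≤ zpowers ⟨s, F.sJ⟩ := fun x hx => by
        have h2 : (x : G) ∈ N := M22Order.mem_normalizer_of_conj fun a ha => by
          obtain ⟨i, rfl⟩ := mem_zpowers_iff.1 ha
          obtain ⟨i', hi'⟩ := mem_zpowers_iff.1
            (M22Order.conj_mem_of_mem_normalizer hx (zpow_mem (mem_zpowers (⟨s, F.sJ⟩ : ↥J)) i))
          exact mem_zpowers_iff.2 ⟨i', by simpa using congrArg Subtype.val hi'⟩
        obtain ⟨i, hi⟩ := mem_zpowers_iff.1 (J_inter F x x.2 (hcon x x.2 h2))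
        exact mem_zpowers_iff.2 ⟨i, Subtype.ext (by simpa using hi)⟩
      have heq : normalizer (S : Set ↥J) = zpowers ⟨s, F.sJ⟩ := le_antisymm hle le_normalizer
      rw [heq] at hn1
      have h3 := (zpowers (⟨s, F.sJ⟩ : ↥J)).card_mul_index
      rw [Nat.card_zpowers, Subgroup.orderOf_mk, F.s7, D.card_J] at h3
      rw [show (zpowers (⟨s, F.sJ⟩ : ↥J)).index = 192 by omega] at hn1
      norm_num [Nat.ModEq] at hn1
    have hlt : Cs ≠ NM := fun e => hns (by
      have h1 : n ∈ Cs := e.symm ▸ mem_inf.2 ⟨hnN, hJM hnJ⟩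
      rw [hCs, centralizer_zpowers] at h1
      exact mem_centralizer_singleton_iff.1 h1)
    have h1 := card_dvd_of_le hCsN
    have h2 := card_dvd_of_le (inf_le_left : NM ≤ N)
    rw [F.cardN] at h2
    obtain ⟨k, hk⟩ := h1
    rw [hk, mul_comm 3] at h2
    have hk3 : k ∣ 3 := Nat.dvd_of_mul_dvd_mul_left Nat.card_pos h2
    rcases (Nat.dvd_prime Nat.prime_three).1 hk3 with e | e
    · exact absurd (eq_of_le_of_card_ge hCsN (by rw [hk, e, mul_one])) hlt
    · have he := eq_of_le_of_card_ge (inf_le_left : NM ≤ N) (by rw [hk, e, F.cardN, mul_comm])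
      rw [← he]; exact inf_le_right

end Cfsg.Agent.J4Pentad
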