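import Cfsg.Agent.Lib.J4V.Invol.Singular
import Cfsg.Agent.Lib.J4V.Inst
import Cfsg.Agent.Lib.J4Local.Isolated

/-!
# Janko four type: the singular lines

An elementary subgroup of order eight through `z` normalised by `P` lies in `E`, and an element of order three
of `C` centralises it, as the orbits of `C` on the singular vectors have lengths dividing 6930.
-/

set_option autoImplicit false
set_option linter.style.haveILetI false
set_option linter.unusedSectionVars false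

namespace Cfsg.Agent.J4Pentad

open Subgroup
open Cfsg.Agent.J4Local
open Cfsg.Agent.J4Eleven (Chart)
open Cfsg.Agent.J4Eleven.Chart (orbit_mul vStab)
open Cfsg.Agent.J4V.Invol

universe u

variable {G : Type u} [Group G] [Finite G] {z : G} {P : Subgroup G}

/-- `⟨z⟩` is the group of fixed points of `P`, so the commutators generate the rest. -/
theorem le_EE (hJ : JType z P) {Z : Subgroup G} (hZ : Nat.card ↥Z = 8) (hsq : ∀ u ∈ Z, u * u = 1)
    (hz : z ∈ Z) (hcomm : ∀ u ∈ Z, u * z = z * u) {p : G} (hp : p ∈ P)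
    (hn : ∀ u ∈ Z, p * u * p⁻¹ ∈ Z) (hfix : Nat.card ↥(Z ⊓ centralizer ({p} : Set G)) = 2) :
    Z ≤ EE z := by
  classical
  obtain ⟨N, -, hN2, hN3, -, hPN, hN5⟩ := hJ.exists_N
  have hZH : ∀ u ∈ Z, u ∈ HH z := fun u hu => mem_HH.2 (hcomm u hu)
  let f : ↥Z → ↥Z := fun u => ⟨u * (p * u * p⁻¹), mul_mem u.2 (hn u u.2)⟩
  have hab : ∀ a ∈ Z, ∀ b ∈ Z, a * b = b * a := fun a ha b hb => by
    calc a * b = (a * b)⁻¹ := eq_inv_of_mul_eq_one_left (hsq _ (mul_mem ha hb))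
      _ = b⁻¹ * a⁻¹ := mul_inv_rev a b
      _ = b * a := by rw [inv_eq_of_mul_eq_one_right (hsq a ha), inv_eq_of_mul_eq_one_right (hsq b hb)]
  let f' : ↥Z →* ↥Z :=
    { toFun := f
      map_one' := Subtype.ext (by show (1 : G) * (p * 1 * p⁻¹) = 1; group)
      map_mul' := fun a b => Subtype.ext (by
        show (a : G) * b * (p * (a * b) * p⁻¹) = a * (p * a * p⁻¹) * (b * (p * b * p⁻¹))
        calc (a : G) * b * (p * (a * b) * p⁻¹) = (a : G) * ((b : G) * (p * a * p⁻¹)) * (p * b * p⁻¹) := by group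
          _ = _ := by rw [hab _ b.2 _ (hn _ a.2)]; group) }
  have hker : Nat.card ↥f'.ker = 2 := by
    rw [← hfix]
    refine Nat.card_congr
      { toFun := fun u => ⟨u.1.1, u.1.2, mem_centralizer_singleton_iff.2 ?_⟩
        invFun := fun u => ⟨⟨u.1, u.2.1⟩, MonoidHom.mem_ker.2 (Subtype.ext ?_)⟩
        left_inv := fun u => rfl
        right_inv := fun u => rfl }
    · have h : (u.1.1 : G) * (p * u.1.1 * p⁻¹) = 1 := congrArg Subtype.val (MonoidHom.mem_ker.1 u.2)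
      have h' : p * u.1.1 * p⁻¹ = u.1.1 := by
        rw [eq_inv_of_mul_eq_one_right h, inv_eq_of_mul_eq_one_right (hsq _ u.1.2)]
      exact (mul_inv_eq_iff_eq_mul.1 h').symm
    · show (u.1 : G) * (p * u.1 * p⁻¹) = 1
      rw [← mem_centralizer_singleton_iff.1 u.2.2, mul_inv_cancel_right, hsq _ u.2.1]
  have hr : Nat.card ↥f'.range = 4 := by
    have h := f'.ker.card_mul_index
    rw [index_ker, hker, hZ] at h
    omega
  set A := Z ⊓ EE z with hA
  have hrA : f'.range.map Z.subtype ≤ A := by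
    rintro _ ⟨_, ⟨u, rfl⟩, rfl⟩
    refine ⟨(f' u).2, ?_⟩
    show (u : G) * (p * u * p⁻¹) ∈ EE z
    have hc : (u : G) * (p * u * p⁻¹) ∈ N := by
      have h1 := mul_mem (hN3 _ (hZH _ u.2) _ (hPN hp)) (inv_mem (hPN hp))
      rwa [show (u : G) * p * (u : G)⁻¹ * p⁻¹ = u * (p * u * p⁻¹) by
        rw [inv_eq_of_mul_eq_one_right (hsq _ u.2)]; group] at h1
    have h2 := hN5 _ hc
    rwa [pow_three, hsq _ (mul_mem u.2 (hn _ u.2)), mul_one] at h2
  have h4 : 4 ∣ Nat.card ↥A := by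
    rw [← hr, ← card_map_of_injective (K := f'.range) Z.subtype_injective]
    exact card_dvd_of_le hrA
  have hzA : z ∈ A := ⟨hz, hJ.ctr.z_mem⟩
  have h8 : Nat.card ↥A ∣ 8 := hZ ▸ card_dvd_of_le inf_le_left
  rcases Nat.eq_or_lt_of_le (Nat.le_of_dvd (by norm_num) h8) with h | h
  · intro u hu
    rw [← eq_of_le_of_card_ge (inf_le_left : Z ⊓ EE z ≤ Z) (by rw [hZ, ← hA, h])] at hu
    exact (mem_inf.1 hu).2
  exfalso
  have e4 : Nat.card ↥A = 4 := by
    obtain ⟨k, hk⟩ := h4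
    have := Nat.card_pos (α := ↥A)
    omega
  have heq : f'.range.map Z.subtype = A :=
    eq_of_le_of_card_ge hrA (by rw [e4, card_map_of_injective Z.subtype_injective, hr])
  obtain ⟨_, ⟨u, rfl⟩, hu⟩ := heq.symm ▸ hzA
  change (u : G) * (p * u * p⁻¹) = z at hu
  have hpu : p * u * p⁻¹ = u * z := by rw [← hu, ← mul_assoc, hsq _ u.2, one_mul]
  have hpz : p * z * p⁻¹ = z := by rw [mem_HH.1 (hJ.P_le_HH hp), mul_inv_cancel_right]
  obtain ⟨q, hq, -, hPq, hq3⟩ := hJ.exists_gen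
  have hp3 : p ^ 3 = 1 := by
    obtain ⟨k, rfl⟩ := mem_zpowers_iff.1 (hPq ▸ hp)
    rw [← zpow_natCast, ← zpow_mul, mul_comm, zpow_mul, zpow_natCast, hq3, one_zpow]
  have e : p ^ 3 * u * (p ^ 3)⁻¹ = u * z := by
    calc p ^ 3 * u * (p ^ 3)⁻¹ = p * (p * (p * u * p⁻¹) * p⁻¹) * p⁻¹ := by rw [pow_three]; group
      _ = p * ((p * u * p⁻¹) * (p * z * p⁻¹)) * p⁻¹ := by
          rw [hpu, show p * ((u : G) * z) * p⁻¹ = (p * u * p⁻¹) * (p * z * p⁻¹) by group, hpu]
      _ = p * u * p⁻¹ := by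
          rw [show (p * (u : G) * p⁻¹) * (p * z * p⁻¹) = u by
            rw [hpu, hpz, mul_assoc (u : G) z z, hJ.ctr.zz, mul_one]]
      _ = u * z := hpu
  rw [hp3, inv_one, mul_one, one_mul] at e
  exact hJ.ctr.ne_one (mul_eq_left.1 e.symm)

/-- The centraliser in `E` of such a subgroup. -/
theorem card_cent_EE (hJ : JType z P) {Z : Subgroup G} (hZ : Nat.card ↥Z = 8) (hz : z ∈ Z) (hZE : Z ≤ EE z) :
    Nat.card ↥(EE z ⊓ centralizer (Z : Set G)) = 2 ^ 11 := by
  have h1 := card_two_mul hJ hZE hz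
  have h2 := card_mul_card_perp hJ (imgV z Z)
  have h4 : Nat.card ↥(imgV z Z) = 4 := by omega
  have e : EE z ⊓ centralizer (Z : Set G) = preV hJ (perp hJ (imgV z Z)) := by
    ext x
    rw [mem_inf, mem_preV, mem_centralizer_iff]
    refine and_congr_right fun hx => ?_
    rw [mem_perp]
    constructor
    · rintro h w ⟨y, hy, hyE, rfl⟩
      rw [BB_vk hJ hx hyE, cm_eq_zero]
      exact (h y hy).symm
    · intro h y hy
      have := h _ (vk_mem_imgV hy (hZE hy))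
      rw [BB_vk hJ hx (hZE hy), cm_eq_zero] at this
      exact this.symm
  rw [e, card_preV, show Nat.card ↥(perp hJ (imgV z Z)) = 2 ^ 10 by rw [h4] at h2; omega]
  norm_num

/-- The commutative subgroups of `E` have order at most `2 ^ 7`. -/
theorem card_comm_le (hJ : JType z P) {S : Subgroup G} (hS : S ≤ EE z)
    (hc : ∀ a ∈ S, ∀ b ∈ S, a * b = b * a) : Nat.card ↥S ≤ 2 ^ 7 := by
  have h1 := card_le_two_mul hJ hS
  have h2 := card_isotropic hJ (W := imgV z S) (by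
    rintro v ⟨a, ha, haE, rfl⟩ w ⟨b, hb, hbE, rfl⟩
    rw [BB_vk hJ haE hbE, cm_eq_zero]
    exact hc a ha b hb)
  omega

variable [IsSimpleGroup G]

/-- The orbit of a singular vector. -/
theorem orbit_dvd (hG : ¬ IsMulCommutative G) (X : Chart z P) {x : G} (hx : x ∈ EE z) (h2 : x * x = 1)
    (hv : vk z x ≠ 0) : {v | ∃ c ∈ CC z P, act z c (vk z x) = v}.ncard ∣ 6930 := by
  obtain ⟨φ, ε, e1, e2, e3, e4, e5⟩ := X.exists_phi_eps hG
  obtain ⟨M⟩ := exists_model hG (⟨φ, ε, e1, e2, e3, e4, e5⟩ : Ident X)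
  have hU : vk z x ∈ X.U0 := by
    obtain ⟨c, hc, e⟩ := M.exists_code hG hx
    rcases Nat.lt_or_ge c 64 with h | h
    · exact ⟨1, one_mem _, by rw [act_one, ← e]; exact (M.elt_WV_iff hG hc).2 h⟩
    have hsq : M.elt c * M.elt c = 1 := by
      rw [← QQ_vk_eq_zero X.L.J (M.elt_EE hG hc), e, QQ_vk_eq_zero X.L.J hx]; exact h2
    have hs : Checks.sing c = true := by
      simp only [Checks.sing, Bool.and_eq_true, Nat.ble_eq, Nat.blt_eq]
      exact ⟨⟨h, hc⟩, by rw [(M.elt_sq hc).1 hsq]; exact Nat.beq_refl _⟩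
    rw [← e]
    exact M.all_singular hG hc hs
  obtain ⟨d, hd, hdv⟩ := hU
  have hmem : act z d (vk z x) ∈ (X.WV : Set (VV z)) \ {0} :=
    ⟨hdv, fun e => hv (act_injective hd.1 (e.trans (map_zero _).symm))⟩
  show (Cfsg.Agent.J4Eleven.Chart.orb z P (vk z x)).ncard ∣ 6930
  rw [← X.orb_eq (v := act z d (vk z x)) ⟨d, hd, rfl⟩]
  rw [X.WV_split.1] at hmem
  rcases hmem with h | h
  · rw [X.orb_five h]; norm_num
  · exact (X.orb_three_dvd h).trans (by norm_num)

/-- An element of order three of `C` centralising the subgroup. -/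
theorem exists_three (hG : ¬ IsMulCommutative G) (X : Chart z P) {Z : Subgroup G} (hZ : Nat.card ↥Z = 8)
    (hsq : ∀ u ∈ Z, u * u = 1) (hz : z ∈ Z) (hZE : Z ≤ EE z) {p : G} (hp : p ∈ P) (hp1 : p ≠ 1)
    (hn : ∀ u ∈ Z, p * u * p⁻¹ ∈ Z) :
    ∃ c ∈ CC z P, orderOf c = 3 ∧ c ∈ centralizer (Z : Set G) := by
  classical
  have hJ := X.L.J
  haveI : Fact (Nat.Prime 3) := ⟨Nat.prime_three⟩
  obtain ⟨x, hxZ, hxz⟩ : ∃ x ∈ Z, x ∉ zpowers z := by
    by_contra hcon
    push Not at hcon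
    have h := card_dvd_of_le (H := Z) (K := zpowers z) hcon
    rw [hZ, Nat.card_zpowers, hJ.two] at h
    norm_num at h
  have hw : vk z x ≠ 0 := fun e => hxz ((vk_eq_zero_iff hJ (hZE hxZ)).1 e)
  have h1 := orbit_mul (CC z P) (CC_le_HH z P) (vk z x)
  obtain ⟨k, hk⟩ := orbit_dvd hG X (hZE hxZ) (hsq x hxZ) hw
  rw [show Nat.card ↥(CC z P) = 6 * 443520 from card_CP hJ] at h1
  set n := {v | ∃ c ∈ CC z P, act z c (vk z x) = v}.ncard
  set W := vStab (CC z P) (CC_le_HH z P) (vk z x)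
  have h3 : 3 ∣ Nat.card ↥W := by
    by_contra hnd
    have h27 : Nat.Coprime 27 (Nat.card ↥W) :=
      Nat.Coprime.pow_left 3 ((Nat.Prime.coprime_iff_not_dvd Nat.prime_three).2 hnd)
    have h2 : 27 ∣ n * Nat.card ↥W := by rw [h1]; norm_num
    have h4 : 27 ∣ 6930 := hk ▸ dvd_mul_of_dvd_left (h27.dvd_of_dvd_mul_right h2) k
    norm_num at h4
  obtain ⟨⟨c, hcW⟩, hc3⟩ := exists_prime_orderOf_dvd_card' (G := ↥W) 3 h3
  rw [Subgroup.orderOf_mk] at hc3
  obtain ⟨hcC, hcf⟩ := hcW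
  have hc33 : c ^ 3 = 1 := hc3 ▸ pow_orderOf_eq_one c
  have hcz : c * z = z * c := mem_HH.1 hcC.1
  have key : ∀ v ∈ Z, act z c (vk z v) = vk z v → c * v = v * c := by
    intro v hv he
    have hvz : v * z = z * v := mem_HH.1 (EE_le_HH z (hZE hv))
    rw [act_vk hcC.1 (hZE hv), vk_eq_vk_iff hJ (conj_mem_EE hcC.1 (hZE hv)) (hZE hv)] at he
    rcases he with e | e
    · exact mul_inv_eq_iff_eq_mul.1 e
    · exfalso
      have h5 : c ^ 3 * v * (c ^ 3)⁻¹ = v * z := by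
        calc c ^ 3 * v * (c ^ 3)⁻¹ = c * (c * (c * v * c⁻¹) * c⁻¹) * c⁻¹ := by rw [pow_three]; group
          _ = c * (c * v * c⁻¹ * (c * z * c⁻¹)) * c⁻¹ := by
            rw [e, show c * (v * z) * c⁻¹ = (c * v * c⁻¹) * (c * z * c⁻¹) by group, e]
          _ = c * (v * z * z) * c⁻¹ := by rw [e, hcz, mul_inv_cancel_right]
          _ = v * z := by rw [mul_assoc v z z, hJ.ctr.zz, mul_one, e]
      rw [hc33, inv_one, mul_one, one_mul] at h5
      exact hJ.ctr.ne_one (mul_eq_left.1 h5.symm)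
  refine ⟨c, hcC, hc3, ?_⟩
  set A := Z ⊓ centralizer ({c} : Set G) with hA
  have hzA : z ∈ A := ⟨hz, mem_centralizer_singleton_iff.2 hcz.symm⟩
  have hxA : x ∈ A := ⟨hxZ, mem_centralizer_singleton_iff.2 (key x hxZ hcf).symm⟩
  have hyA : p * x * p⁻¹ ∈ A := ⟨hn x hxZ, mem_centralizer_singleton_iff.2 (key _ (hn x hxZ) (by
    rw [← act_vk (hJ.P_le_HH hp) (hZE hxZ), ← act_mul hcC.1 (hJ.P_le_HH hp), commute_CC_P hcC hp,
      act_mul (hJ.P_le_HH hp) hcC.1, hcf])).symm⟩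
  have h5 : 5 ≤ Nat.card ↥A := by
    have hne : ∀ b ∈ zpowers z, p * x * p⁻¹ ≠ x * b := fun b hb e =>
      hxz (hJ.fpf hp hp1 (hZE hxZ) (by
        rw [e, show x * b * x⁻¹ = b * (x * x⁻¹) by
          rcases hJ.mem_zpowers hb with rfl | rfl
          · group
          · rw [mem_HH.1 (EE_le_HH _ (hZE hxZ))]; group, mul_inv_cancel, mul_one]
        exact hb))
    have hne1 : ∀ b ∈ zpowers z, p * x * p⁻¹ ≠ b := fun b hb e => hxz (by
      have h6 : x = p⁻¹ * b * p := by rw [← e]; group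
      rw [h6]
      rcases hJ.mem_zpowers hb with rfl | rfl
      · simp
      · rw [mul_assoc, ← mem_HH.1 (hJ.P_le_HH hp), inv_mul_cancel_left]; exact hb)
    let s : Finset G := {1, z, x, x * z, p * x * p⁻¹}
    have hs : (s : Set G) ⊆ A := by
      intro a ha
      simp only [s, Finset.coe_insert, Finset.coe_singleton, Set.mem_insert_iff, Set.mem_singleton_iff] at ha
      rcases ha with rfl | rfl | rfl | rfl | rfl
      exacts [one_mem _, hzA, hxA, mul_mem hxA hzA, hyA]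
    have hcard : s.card = 5 := by
      have a1 : (1 : G) ≠ z := hJ.ctr.ne_one.symm
      have a2 : (1 : G) ≠ x := fun e => hxz (e ▸ one_mem _)
      have a3 : (1 : G) ≠ x * z := fun e => hxz (by
        rw [eq_inv_of_mul_eq_one_left e.symm]; exact inv_mem (mem_zpowers z))
      have a4 : (1 : G) ≠ p * x * p⁻¹ := fun e => hne1 1 (one_mem _) e.symm
      have b2 : z ≠ x := fun e => hxz (e ▸ mem_zpowers z)
      have b3 : z ≠ x * z := fun e => a2 (mul_eq_right.1 e.symm).symm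
      have b4 : z ≠ p * x * p⁻¹ := fun e => hne1 z (mem_zpowers z) e.symm
      have c3 : x ≠ x * z := fun e => a1 (mul_eq_left.1 e.symm).symm
      have c4 : x ≠ p * x * p⁻¹ := fun e => hne 1 (one_mem _) (by rw [mul_one]; exact e.symm)
      have d4 : x * z ≠ p * x * p⁻¹ := fun e => hne z (mem_zpowers z) e.symm
      simp [s, a1, a2, a3, a4, b2, b3, b4, c3, c4, d4]
    rw [← hcard, ← Set.ncard_coe_finset, ← SetLike.coe_sort_coe, Nat.card_coe_set_eq]
    exact Set.ncard_le_ncard hs (Set.toFinite _)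
  have h8 : Nat.card ↥A ∣ 8 := hZ ▸ card_dvd_of_le inf_le_left
  have h88 : Nat.card ↥A = 8 := by
    have := Nat.le_of_dvd (by norm_num) h8
    interval_cases h : Nat.card ↥A <;> omega
  refine mem_centralizer_iff.2 fun v hv => ?_
  rw [← eq_of_le_of_card_ge inf_le_left (show Nat.card ↥Z ≤ Nat.card ↥A by rw [hZ, h88])] at hv
  exact mem_centralizer_singleton_iff.1 (mem_inf.1 hv).2

end Cfsg.Agent.J4Pentad
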