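import Cfsg.Agent.Lib.J4Pentad.Core

/-!
# Janko four type: the orders in the normaliser of the subgroup of order eight

The centraliser of the subgroup is the extension of its largest normal 2-subgroup of order `2 ^ 15` by the
symmetric group of degree five centralising an element of order seven.
-/

set_option autoImplicit false
set_option linter.style.haveILetI false
set_option linter.unusedSectionVars false

namespace Cfsg.Agent.J4Pentad

open Subgroup
open Cfsg.Agent.J4Local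
open Cfsg.Agent.J4Eleven (Chart)

universe u

variable {G : Type u} [Group G] [Finite G] {z : G} {P : Subgroup G}

/-- The facts on the normaliser. -/
structure Facts (z : G) (P Q J : Subgroup G) (E : Subgroup ↥J) (q s : G) (I : Subgroup G) : Prop where
  qQ : Q = zpowers q
  q5 : orderOf q = 5
  sJ : s ∈ J
  s7 : orderOf s = 7
  meet : J ⊓ centralizer (Hyp.Zs E : Set G) = Hyp.Zs E
  sfix : Hyp.Zs E ⊓ centralizer ({s} : Set G) = ⊥
  prodI : Cfsg.IsInternalDirectProduct (zpowers s) I (centralizer (zpowers s : Set G))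
  isoI : Nonempty (↥I ≃* Equiv.Perm (Fin 5))
  cardN : Nat.card ↥(normalizer (zpowers s : Set G)) = 3 * Nat.card ↥(centralizer (zpowers s : Set G))
  h49 : ¬ 49 ∣ Nat.card G
  qI : q ∈ I
  I_le : I ≤ centralizer (Hyp.Zs E : Set G)
  Z_le : Hyp.Zs E ≤ twoCore (centralizer (Hyp.Zs E : Set G))
  LQ : twoCore (centralizer (Hyp.Zs E : Set G)) ⊓ centralizer (Q : Set G) = Hyp.Zs E
  Ls : twoCore (centralizer (Hyp.Zs E : Set G)) ⊓ centralizer ({s} : Set G) = ⊥
  cardL : Nat.card ↥(twoCore (centralizer (Hyp.Zs E : Set G))) = 2 ^ 15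
  cardC : Nat.card ↥(centralizer (Hyp.Zs E : Set G)) = 2 ^ 15 * 120
  noncomm : ¬ ∀ a ∈ twoCore (centralizer (Hyp.Zs E : Set G)),
    ∀ b ∈ twoCore (centralizer (Hyp.Zs E : Set G)), a * b = b * a

theorem centralizer_zpowers (x : G) : centralizer (zpowers x : Set G) = centralizer ({x} : Set G) := by
  ext g
  rw [mem_centralizer_singleton_iff, mem_centralizer_iff]
  exact ⟨fun h => (h x (mem_zpowers x)).symm, fun h a ha => (J4Seven.comm_of_mem_zpowers ha h).symm⟩

/-- The part of an invariant subgroup of order `r ^ b` centralised by an element of order seven. -/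
theorem le_of_fixed {R : Subgroup G} {s : G} (hs : s ^ 7 = 1) (hn : ∀ v ∈ R, s * v * s⁻¹ ∈ R) {r b : ℕ}
    (hr : r.Prime) (hb : Nat.card ↥R = r ^ b) (key : ∀ i ≤ b, r ^ b ≡ r ^ i [MOD 7] → i = b) :
    R ≤ centralizer ({s} : Set G) := by
  haveI : Fact (Nat.Prime 7) := ⟨by norm_num⟩
  have h1 := J4Seven.card_conj_fixed (p := 7) hs R hn
  obtain ⟨i, hi, he⟩ := (Nat.dvd_prime_pow hr).1 (hb ▸ card_dvd_of_le (inf_le_left : R ⊓ centralizer ({s} : Set G) ≤ R))
  rw [hb, he] at h1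
  rw [key i hi h1] at he
  intro v hv
  rw [← eq_of_le_of_card_ge (inf_le_left : R ⊓ centralizer ({s} : Set G) ≤ R) (by rw [hb, he])] at hv
  exact (mem_inf.1 hv).2

variable [IsSimpleGroup G]

set_option maxHeartbeats 2000000 in
theorem exists_facts (hG : ¬ IsMulCommutative G) (X : Chart z P) {Q J : Subgroup G} {E : Subgroup ↥J}
    (D : Hyp z P Q J E) : ∃ q s : G, ∃ I : Subgroup G, Facts z P Q J E q s I := by
  classical
  haveI : Fact (Nat.Prime 7) := ⟨by norm_num⟩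
  haveI : Fact (Nat.Prime 5) := ⟨by norm_num⟩
  haveI : Fact (Nat.Prime 3) := ⟨Nat.prime_three⟩
  haveI : Fact (Nat.Prime 2) := ⟨Nat.prime_two⟩
  haveI : Fact (Nat.Prime 11) := ⟨by norm_num⟩
  have hJ := X.L.J
  obtain ⟨s, hsJ, hs, hmeet, hsfix, -⟩ := D.exists_seven hG hJ
  obtain ⟨h49, ⟨I, hI, hφ⟩, hN, -⟩ := J4Seven.order_seven hG ⟨P, hJ⟩ (zpowers s) (by rw [Nat.card_zpowers, hs])
  obtain ⟨φ⟩ := hφ
  obtain ⟨⟨q, hqQ⟩, hq⟩ := exists_prime_orderOf_dvd_card' (G := ↥Q) 5 (by rw [D.card5])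
  rw [Subgroup.orderOf_mk] at hq
  have hQ : Q = zpowers q := (eq_of_le_of_card_ge (zpowers_le.2 hqQ) (by rw [Nat.card_zpowers, hq, D.card5])).symm
  set Zz := Hyp.Zs E with hZ
  set C := centralizer (Zz : Set G) with hC
  set M := normalizer (Zz : Set G) with hM
  set L := twoCore C with hL
  have hCM : C ≤ M := fun c hc => M22Order.mem_normalizer_of_conj fun u hu => by
    rw [← mem_centralizer_iff.1 hc u hu, mul_inv_cancel_right]; exact hu
  have hMC : ∀ g ∈ M, g ∈ normalizer (C : Set G) := fun g hg => M22Order.mem_normalizer_of_conj fun c hc =>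
    mem_centralizer_iff.2 fun u hu => by
      have h1 : g⁻¹ * u * g ∈ Zz := by
        simpa using M22Order.conj_mem_of_mem_normalizer (inv_mem hg) hu
      have h2 := mem_centralizer_iff.1 hc _ h1
      calc u * (g * c * g⁻¹) = g * (g⁻¹ * u * g * c) * g⁻¹ := by group
        _ = _ := by rw [h2]; group
  have hsM : s ∈ M := D.CQ_le (D.J_le hsJ)
  have hs7 : s ^ 7 = 1 := hs ▸ pow_orderOf_eq_one s
  have hq5 : q ^ 5 = 1 := hq ▸ pow_orderOf_eq_one q
  have hqC : q ∈ C := mem_centralizer_iff.2 fun u hu => (D.comm hqQ (Hyp.Zs_le E hu)).symm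
  have hqs : q * s = s * q := D.comm hqQ hsJ
  have hcs : centralizer (zpowers s : Set G) = centralizer ({s} : Set G) := centralizer_zpowers s
  have hqI : q ∈ I := mem_right hI (hcs ▸ mem_centralizer_singleton_iff.2 hqs) hq5
    (by rw [Nat.card_zpowers, hs]; norm_num)
  have hIs : ∀ i ∈ I, i * s = s * i := fun i hi => mem_centralizer_singleton_iff.1 (hcs ▸ hI.2.1 hi)
  have hCH : C ≤ HH z := fun c hc => mem_HH.2 (mem_centralizer_iff.1 hc z (D.z_mem_Zs hJ)).symm
  have hCdvd : Nat.card ↥C ∣ 2 ^ 21 * (3 ^ 3 * 5 * 7 * 11) := by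
    have h := card_dvd_of_le hCH
    rwa [X.L.cardH, show 2 ^ 13 * 2661120 = 2 ^ 21 * (3 ^ 3 * 5 * 7 * 11) by norm_num] at h
  -- the order is prime to seven
  obtain ⟨Φ, hΦ, hΦk⟩ := D.exists_act hG hJ
  have hM168 : Nat.card ↥M = 168 * Nat.card ↥C := by
    have h := Φ.ker.card_mul_index
    rw [index_ker, MonoidHom.range_eq_top.2 hΦ, Nat.card_congr topEquiv.toEquiv, card_SL32, hΦk,
      Nat.card_congr (subgroupOfEquivOfLe hCM).toEquiv] at h
    have h' : Nat.card ↥C * 168 = Nat.card ↥M := h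
    omega
  have h7 : ¬ 7 ∣ Nat.card ↥C := fun h => h49 (dvd_trans (by
    obtain ⟨k, hk⟩ := h
    exact ⟨24 * k, by rw [hM168, hk]; ring⟩) (card_subgroup_dvd_card M))
  -- odd part
  have hfix : ∀ {x : G}, x ∈ C → x * s = s * x → x ∈ I := fun {x} hx hxs => mem_right hI
    (hcs ▸ mem_centralizer_singleton_iff.2 hxs)
    (congrArg Subtype.val (pow_card_eq_one' (x := (⟨x, hx⟩ : ↥C))))
    (by rw [Nat.card_zpowers, hs]; exact ((Nat.Prime.coprime_iff_not_dvd (by norm_num)).2 h7).symm)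
  have h120 : Nat.card ↥I = 120 := by
    rw [Nat.card_congr φ.toEquiv, Nat.card_perm, Nat.card_fin]; decide
  have hsyl : ∀ r : ℕ, r.Prime → ∀ B, (Nat.card ↥C).factorization r ≤ B →
      (∀ b ≤ B, ∀ i ≤ b, r ^ b ≡ r ^ i [MOD 7] → i = b) →
      ∃ R ≤ C ⊓ I, Nat.card ↥R = r ^ (Nat.card ↥C).factorization r := by
    intro r hr B hB key
    haveI := Fact.mk hr
    obtain ⟨R, hRC, hRc, hRs⟩ := exists_inv_sylow C (hMC s hsM) hs7 h7 r
    have h := le_of_fixed hs7 hRs hr hRc (key _ hB)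
    exact ⟨R, fun v hv => ⟨hRC hv, hfix (hRC hv) (mem_centralizer_singleton_iff.1 (h hv))⟩, hRc⟩
  have hb3 : (Nat.card ↥C).factorization 3 ≤ 3 := by
    by_contra hcon
    have h1 : 3 ^ 4 ∣ 2 ^ 21 * (3 ^ 3 * 5 * 7 * 11) :=
      ((pow_dvd_pow 3 (by omega)).trans (Nat.ordProj_dvd _ 3)).trans hCdvd
    norm_num at h1
  have hb11 : (Nat.card ↥C).factorization 11 ≤ 1 := by
    by_contra hcon
    have h1 : 11 ^ 2 ∣ 2 ^ 21 * (3 ^ 3 * 5 * 7 * 11) :=
      ((pow_dvd_pow 11 (by omega)).trans (Nat.ordProj_dvd _ 11)).trans hCdvd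
    norm_num at h1
  obtain ⟨R3, hR3, hR3c⟩ := hsyl 3 Nat.prime_three 3 hb3 (by
    intro b hb i hi h
    unfold Nat.ModEq at h
    interval_cases b <;> interval_cases i <;> simp_all)
  have h9 : ¬ 9 ∣ Nat.card ↥C := fun h => by
    have h1 : 2 ≤ (Nat.card ↥C).factorization 3 :=
      (Nat.Prime.pow_dvd_iff_le_factorization Nat.prime_three Nat.card_pos.ne').1 h
    have h2 := card_dvd_of_le (hR3.trans inf_le_right)
    rw [h120, hR3c] at h2
    have h3 := (pow_dvd_pow 3 h1).trans h2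
    norm_num at h3
  have h11 : ¬ 11 ∣ Nat.card ↥C := fun h => by
    obtain ⟨R, hR, hRc⟩ := hsyl 11 (by norm_num) 1 hb11 (by
      intro b hb i hi h
      unfold Nat.ModEq at h
      interval_cases b <;> interval_cases i <;> simp_all)
    have h1 : 1 ≤ (Nat.card ↥C).factorization 11 :=
      (Nat.Prime.pow_dvd_iff_le_factorization (by norm_num) Nat.card_pos.ne').1 (by simpa using h)
    have h2 := card_dvd_of_le (hR.trans inf_le_right)
    rw [h120, hRc] at h2
    have h3 := (pow_dvd_pow 11 h1).trans h2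
    norm_num at h3
  have h3C : 3 ∣ Nat.card ↥C := by
    obtain ⟨p, hp, hp1, -, -⟩ := hJ.exists_gen
    obtain ⟨c, -, hc3, hcC⟩ := exists_three hG X D.card_Zs (fun u hu => D.sq hu) (D.z_mem_Zs hJ)
      (D.Zs_le_EE hG hJ) hp hp1 fun u hu => D.J_norm (D.P_le_J hJ hp) hu
    exact hc3 ▸ C.orderOf_dvd_natCard hcC
  -- the symmetric group centralises the subgroup
  have hIM : I ≤ M := by
    set A := ((I ⊓ M).subgroupOf I).map φ.toMonoidHom with hA
    have hAc : Nat.card ↥A = Nat.card ↥(I ⊓ M) := by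
      rw [hA, card_map_of_injective φ.injective, Nat.card_congr (subgroupOfEquivOfLe inf_le_left).toEquiv]
    have h3A : 3 ∣ Nat.card ↥A := by
      rw [hAc]
      have h1 : 1 ≤ (Nat.card ↥C).factorization 3 :=
        (Nat.Prime.pow_dvd_iff_le_factorization Nat.prime_three Nat.card_pos.ne').1 (by simpa using h3C)
      have h2 : Nat.card ↥R3 ∣ Nat.card ↥(I ⊓ M) :=
        card_dvd_of_le fun v hv => ⟨(mem_inf.1 (hR3 hv)).2, hCM (mem_inf.1 (hR3 hv)).1⟩
      exact (hR3c ▸ (pow_one 3 ▸ pow_dvd_pow 3 h1)).trans h2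
    have hAtop : A = ⊤ := by
      refine perm_five_top A (q := φ ⟨q, hqI⟩) ⟨⟨q, hqI⟩, mem_subgroupOf.2 ⟨hqI, hCM hqC⟩, rfl⟩
        (by rw [← map_pow, show (⟨q, hqI⟩ : ↥I) ^ 5 = 1 from Subtype.ext hq5, map_one])
        (fun e => ?_) h3A fun g hg => ?_
      · have h1 : q = 1 := congrArg Subtype.val (φ.injective (e.trans (map_one φ).symm))
        rw [h1, orderOf_one] at hq; omega
      · obtain ⟨i, rfl⟩ := φ.surjective g
        rw [← map_mul, ← map_mul, ← map_mul] at hg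
        have h1 : (i : G) * q = q * q * i := congrArg Subtype.val (φ.injective hg)
        refine ⟨i, mem_subgroupOf.2 ⟨i.2, D.NQ_le (M22Order.mem_normalizer_of_conj fun a ha => ?_)⟩, rfl⟩
        rw [hQ] at ha ⊢
        obtain ⟨n, rfl⟩ := mem_zpowers_iff.1 ha
        rw [← conj_zpow, h1, mul_inv_cancel_right]
        exact zpow_mem (mul_mem (mem_zpowers q) (mem_zpowers q)) n
    intro i hi
    obtain ⟨a, ha, e⟩ : φ ⟨i, hi⟩ ∈ A := hAtop ▸ mem_top _
    have h1 : a = ⟨i, hi⟩ := φ.injective e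
    exact (mem_inf.1 (mem_subgroupOf.1 (h1 ▸ ha))).2
  have hIC : I ≤ C := by
    intro i hi
    set a := Φ ⟨s, hsM⟩
    set b := Φ ⟨i, hIM hi⟩
    have ha7 : a * a * a * (a * a * a) * a = 1 := by
      simp only [a, ← map_mul]
      rw [show (⟨s, hsM⟩ : ↥M) * ⟨s, hsM⟩ * ⟨s, hsM⟩ * (⟨s, hsM⟩ * ⟨s, hsM⟩ * ⟨s, hsM⟩) * ⟨s, hsM⟩ = 1 from
        Subtype.ext (show s * s * s * (s * s * s) * s = 1 by rw [← hs7]; simp [pow_succ, mul_assoc]), map_one]
    have hane : a ≠ 1 := fun e => by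
      have h1 : (⟨s, hsM⟩ : ↥M) ∈ Φ.ker := e
      rw [hΦk, mem_subgroupOf] at h1
      exact h7 (hs ▸ C.orderOf_dvd_natCard h1)
    have hb7 : b ^ 7 = 1 := by
      have h1 := sl32_seven a ha7 hane b (by
        simp only [a, b, ← map_mul]
        exact congrArg Φ (Subtype.ext (hIs i hi).symm))
      rw [← h1]; simp [pow_succ, mul_assoc]
    have hb120 : b ^ 120 = 1 := by
      rw [← map_pow, show (⟨i, hIM hi⟩ : ↥M) ^ 120 = 1 from Subtype.ext (by
        have := congrArg Subtype.val (pow_card_eq_one' (x := (⟨i, hi⟩ : ↥I)))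
        rwa [h120] at this), map_one]
    have h1 : (⟨i, hIM hi⟩ : ↥M) ∈ Φ.ker := coprime_eq_one hb7 hb120 (by norm_num)
    rw [hΦk, mem_subgroupOf] at h1
    exact h1
  -- the largest normal 2-subgroup
  have hZL : Zz ≤ L := le_twoCore (fun u hu => mem_centralizer_iff.2 fun v hv =>
      mem_centralizer_iff.1 (mem_inf.1 (hmeet.symm ▸ hu : u ∈ J ⊓ centralizer (Zz : Set G))).2 v hv)
    (fun c hc u hu => by rw [← mem_centralizer_iff.1 hc u hu, mul_inv_cancel_right]; exact hu) D.isPGroup_Zs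
  have hLn : ∀ {g}, g ∈ M → ∀ l ∈ L, g * l * g⁻¹ ∈ L := fun {g} hg l hl => twoCore_conj (hMC g hg) hl
  obtain ⟨l, hl⟩ := (IsPGroup.iff_card (p := 2)).1 (isPGroup_twoCore C)
  rw [← hL] at hl
  have hLpow : ∀ x ∈ L, x ^ 2 ^ l = 1 := fun x hx => by
    have := congrArg Subtype.val (pow_card_eq_one' (x := (⟨x, hx⟩ : ↥L)))
    rwa [hl] at this
  have hLQ : L ⊓ centralizer (Q : Set G) = Zz := by
    refine le_antisymm (D.le_Zs (fun x hx => D.mem_J hx.2 (hLpow x hx.1) (Nat.Coprime.pow_left l (by norm_num)))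
      (fun j hj a ha => mem_inf.2 ⟨hLn (D.CQ_le (D.J_le hj)) a ha.1, mul_mem (mul_mem (D.J_le hj) ha.2) (inv_mem (D.J_le hj))⟩)
      ((isPGroup_twoCore C).to_le inf_le_left)) (le_inf hZL ((Hyp.Zs_le E).trans D.J_le))
  have hLs : L ⊓ centralizer ({s} : Set G) = ⊥ := by
    set A := L ⊓ centralizer ({s} : Set G)
    have hAI : A ≤ I := fun x hx => hfix (twoCore_le C hx.1) (mem_centralizer_singleton_iff.1 hx.2)
    have h1 := J4Seven.card_conj_fixed (p := 5) hq5 A fun v hv => mem_inf.2 ⟨hLn (hCM hqC) v hv.1, mul_mem (mul_mem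
      (mem_centralizer_singleton_iff.2 hqs) hv.2) (inv_mem (mem_centralizer_singleton_iff.2 hqs))⟩
    have h2 : A ⊓ centralizer ({q} : Set G) = ⊥ := by
      rw [eq_bot_iff, ← hsfix]
      intro x hx
      refine ⟨?_, hx.1.2⟩
      rw [← hLQ]
      exact ⟨hx.1.1, by rw [hQ, centralizer_zpowers]; exact hx.2⟩
    rw [h2, card_bot] at h1
    obtain ⟨i, -, he⟩ := (Nat.dvd_prime_pow Nat.prime_two).1 (hl ▸ card_dvd_of_le (inf_le_left : A ≤ L))
    have h3 := card_dvd_of_le hAI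
    rw [h120, he] at h3
    rw [he] at h1
    have hi : i ≤ 3 := by
      by_contra hcon
      have h4 := (pow_dvd_pow 2 (show 4 ≤ i by omega)).trans h3
      norm_num at h4
    unfold Nat.ModEq at h1
    rw [← card_eq_one, he]
    interval_cases i <;> simp_all
  have hZE := D.Zs_le_EE hG hJ
  have hEL : EE z ⊓ C ≤ L := le_twoCore inf_le_right
    (fun c hc e he => mem_inf.2 ⟨conj_mem_EE (hCH hc) he.1, mul_mem (mul_mem hc he.2) (inv_mem hc)⟩)
    ((IsPGroup.of_card (n := 13) hJ.cardE).to_le inf_le_left)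
  have hE11 : Nat.card ↥(EE z ⊓ C) = 2 ^ 11 := card_cent_EE hJ D.card_Zs (D.z_mem_Zs hJ) hZE
  have hl15 : l = 15 := by
    have ha : 2 ^ 11 ∣ 2 ^ l := hl ▸ hE11 ▸ card_dvd_of_le hEL
    have hb : 2 ^ l ∣ 2 ^ 21 := by
      have h1 := (hl ▸ card_dvd_of_le (twoCore_le C) : 2 ^ l ∣ Nat.card ↥C).trans hCdvd
      exact (Nat.Coprime.pow_left l (by norm_num)).dvd_of_dvd_mul_right h1
    rw [Nat.pow_dvd_pow_iff_le_right one_lt_two] at ha hb
    have h1 := J4Seven.card_conj_fixed (p := 5) hq5 L fun v hv => hLn (hCM hqC) v hv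
    rw [← centralizer_zpowers q, ← hQ, hLQ, D.card_Zs, hl] at h1
    have h2 := J4Seven.card_conj_fixed (p := 7) hs7 L fun v hv => hLn hsM v hv
    rw [hLs, card_bot, hl] at h2
    unfold Nat.ModEq at h1 h2
    interval_cases l <;> simp_all
  subst hl15
  -- the order of the centraliser
  have hC15 : Nat.card ↥C = 2 ^ 15 * 120 := by
    set n := Nat.card ↥C with hn
    have h1 : n ∣ 2 ^ 21 * (3 ^ 3 * 5) := by
      have e : 2 ^ 21 * (3 ^ 3 * 5 * 7 * 11) = 2 ^ 21 * (3 ^ 3 * 5) * (7 * 11) := by ring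
      rw [e] at hCdvd
      exact (Nat.Coprime.mul_right ((Nat.Prime.coprime_iff_not_dvd (by norm_num)).2 h7).symm
        ((Nat.Prime.coprime_iff_not_dvd (by norm_num)).2 h11).symm).dvd_of_dvd_mul_right hCdvd
    have hLI : 2 ^ 15 * 120 ∣ n := by
      have hd : Disjoint L I := disjoint_iff_inf_le.2 fun x hx => by
        rw [← hLs]; exact ⟨hx.1, mem_centralizer_singleton_iff.2 (hIs x hx.2)⟩
      rw [← hl, ← h120, ← Coprime.card_sup_of_disjoint (fun i hi => M22Order.mem_normalizer_of_conj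
        fun a ha => hLn (hIM hi) a ha) hd]
      exact card_dvd_of_le (sup_le (twoCore_le C) hIC)
    have hfixC := J4Seven.card_conj_fixed (p := 7) hs7 C fun v hv =>
      M22Order.conj_mem_of_mem_normalizer (hMC s hsM) hv
    have hCI : C ⊓ centralizer ({s} : Set G) = I := le_antisymm
      (fun x hx => hfix hx.1 (mem_centralizer_singleton_iff.1 hx.2))
      (le_inf hIC fun x hx => mem_centralizer_singleton_iff.2 (hIs x hx))
    rw [hCI, h120] at hfixC
    obtain ⟨k, hk⟩ := hLI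
    have h2 : k ∣ 2 ^ 3 * 3 ^ 2 := by
      have h3 : (2 ^ 15 * 120) * k ∣ (2 ^ 15 * 120) * (2 ^ 3 * 3 ^ 2) := by
        rw [← hk]
        exact h1.trans (by norm_num)
      exact Nat.dvd_of_mul_dvd_mul_left (by norm_num) h3
    have hk3 : ¬ 3 ∣ k := fun h => h9 (by
      obtain ⟨m, rfl⟩ := h
      exact ⟨2 ^ 15 * 40 * m, by rw [hk]; ring⟩)
    have h8 : k ∣ 2 ^ 3 :=
      (Nat.Coprime.pow_right 2 ((Nat.Prime.coprime_iff_not_dvd Nat.prime_three).2 hk3).symm).dvd_of_dvd_mul_right h2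
    obtain ⟨j, hj, rfl⟩ := (Nat.dvd_prime_pow Nat.prime_two).1 h8
    rw [← hn, hk] at hfixC
    unfold Nat.ModEq at hfixC
    interval_cases j <;> try omega
    exfalso
    obtain ⟨T, hT⟩ := Sylow.exists_subgroup_card_pow_prime 2 (n := 21) (G := ↥C) ⟨15, by rw [← hn, hk]; norm_num⟩
    set T' := T.map C.subtype
    have hT' : Nat.card ↥T' = 2 ^ 21 := by rw [card_map_of_injective C.subtype_injective, hT]
    have hTC : T' ≤ C := map_subtype_le _
    have hET : IsPGroup 2 ↥(T' ⊔ EE z) := IsPGroup.to_sup_of_normal_right' (IsPGroup.of_card hT')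
      (IsPGroup.of_card (n := 13) hJ.cardE) fun t ht => M22Order.mem_normalizer_of_conj fun e he =>
        conj_mem_EE (hCH (hTC ht)) he
    obtain ⟨m, hm⟩ := (IsPGroup.iff_card (p := 2)).1 hET
    have hm21 : m ≤ 21 := by
      have h4 : 2 ^ m ∣ 2 ^ 21 * (3 ^ 3 * 5 * 7 * 11) := by
        rw [← hm, show 2 ^ 21 * (3 ^ 3 * 5 * 7 * 11) = 2 ^ 13 * 2661120 by norm_num, ← X.L.cardH]
        exact card_dvd_of_le (sup_le (hTC.trans hCH) (EE_le_HH z))
      exact (Nat.pow_dvd_pow_iff_le_right one_lt_two).1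
        ((Nat.Coprime.pow_left m (by norm_num)).dvd_of_dvd_mul_right h4)
    have hTE : T' = T' ⊔ EE z := eq_of_le_of_card_ge le_sup_left (by
      rw [hm, hT']; exact Nat.pow_le_pow_right (by norm_num) hm21)
    have hZc : Zz ≤ zpowers z := fun u hu => hJ.ctr.cent ▸ mem_centralizer_iff.2 fun e he =>
      (mem_centralizer_iff.1 (hTC (hTE.symm ▸ mem_sup_right he : e ∈ T')) u hu).symm
    have h5 := card_dvd_of_le hZc
    rw [D.card_Zs, Nat.card_zpowers, hJ.two] at h5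
    norm_num at h5
  refine ⟨q, s, I, hQ, hq, hsJ, hs, hmeet, hsfix, hI, ⟨φ⟩, hN, h49, hqI, hIC, hZL, hLQ, hLs, hl, hC15, ?_⟩
  intro hcomm
  have h1 := card_comm_le hJ (S := EE z ⊓ C) inf_le_left fun a ha b hb => hcomm a (hEL ha) b (hEL hb)
  rw [hE11] at h1
  norm_num at h1

end Cfsg.Agent.J4Pentad
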